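import Mathlib

/-!
# Zariski's lemma on birational domination of two-dimensional local rings
-/

set_option autoImplicit false
set_option linter.unusedSectionVars false
set_option linter.style.haveILetI false
set_option linter.unusedSimpArgs false

universe u

namespace Groth.Agent.RelMin

open Polynomial

theorem exists_sum_of_mem_span_pair_pow {A : Type u} [CommRing A] (p q : A) :
    ∀ (n : ℕ) (f : A), f ∈ (Ideal.span {p, q}) ^ n →
      ∃ c : ℕ → A, f = ∑ i ∈ Finset.range (n + 1), c i * (p ^ i * q ^ (n - i)) := by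
  intro n
  induction n with
  | zero => exact fun f _ => ⟨fun _ => f, by simp⟩
  | succ n ih =>
    intro f hf
    rw [pow_succ] at hf
    refine Submodule.mul_induction_on hf (fun a ha b hb => ?_) fun a b ha hb => ?_
    · obtain ⟨c, rfl⟩ := ih a ha
      obtain ⟨r, s, rfl⟩ := Ideal.mem_span_pair.1 hb
      refine ⟨fun i => (if i = 0 then 0 else c (i - 1) * r) + (if i = n + 1 then 0 else c i * s), ?_⟩
      simp only [add_mul, Finset.sum_add_distrib]
      rw [mul_add, Finset.sum_mul, Finset.sum_mul]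
      congr 1
      · conv_rhs => rw [Finset.sum_range_succ']
        simp only [Nat.add_eq_zero_iff, one_ne_zero, and_false, if_false, if_true, zero_mul, add_zero,
          Nat.succ_sub_succ_eq_sub, Nat.sub_zero]
        exact Finset.sum_congr rfl fun i _ => by ring
      · conv_rhs => rw [Finset.sum_range_succ]
        simp only [if_true, zero_mul, add_zero]
        refine Finset.sum_congr rfl fun i hi => ?_
        rw [Finset.mem_range] at hi
        rw [if_neg (by omega), show n + 1 - i = (n - i) + 1 by omega, pow_succ]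
        ring
    · obtain ⟨c, rfl⟩ := ha
      obtain ⟨d, rfl⟩ := hb
      exact ⟨c + d, by simp [add_mul, Finset.sum_add_distrib]⟩

theorem mem_maximalIdeal_of_sum_eq_zero {B : Type u} [CommRing B] [IsDomain B] [IsLocalRing B]
    [UniqueFactorizationMonoid B] {a b : B} (ha : a ∈ IsLocalRing.maximalIdeal B)
    (hb : b ∈ IsLocalRing.maximalIdeal B) (ha0 : a ≠ 0) (hab : IsRelPrime a b) :
    ∀ (d : ℕ) (h : ℕ → B), ∑ i ∈ Finset.range (d + 1), h i * (a ^ i * b ^ (d - i)) = 0 →
      ∀ i ≤ d, h i ∈ IsLocalRing.maximalIdeal B := by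
  letI := UniqueFactorizationMonoid.toGCDMonoid B
  intro d
  induction d with
  | zero =>
    intro h hs i hi
    obtain rfl : i = 0 := by omega
    simp only [zero_add, Finset.range_one, Finset.sum_singleton, pow_zero, one_mul, mul_one, Nat.sub_self] at hs
    rw [hs]; exact zero_mem _
  | succ d ih =>
    intro h hs
    rw [Finset.sum_range_succ'] at hs
    simp only [pow_zero, one_mul, Nat.sub_zero, Nat.succ_sub_succ_eq_sub] at hs
    have e : ∑ i ∈ Finset.range (d + 1), h (i + 1) * (a ^ (i + 1) * b ^ (d - i)) =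
        a * ∑ i ∈ Finset.range (d + 1), h (i + 1) * (a ^ i * b ^ (d - i)) := by
      rw [Finset.mul_sum]
      exact Finset.sum_congr rfl fun i _ => by ring
    rw [e] at hs
    have hdvd : a ∣ h 0 := by
      refine (hab.pow_right (n := d + 1)).dvd_of_dvd_mul_right ?_
      exact ⟨-(∑ i ∈ Finset.range (d + 1), h (i + 1) * (a ^ i * b ^ (d - i))), by linear_combination hs⟩
    obtain ⟨c, hc⟩ := hdvd
    let h' : ℕ → B := fun i => h (i + 1) + if i = 0 then c * b else 0
    have hs' : ∑ i ∈ Finset.range (d + 1), h' i * (a ^ i * b ^ (d - i)) = 0 := by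
      refine (mul_eq_zero.1 ?_).resolve_left ha0
      simp only [h', add_mul, Finset.sum_add_distrib, ite_mul, zero_mul, Finset.sum_ite_eq',
        Finset.mem_range, Nat.succ_pos, if_true, pow_zero, one_mul, Nat.sub_zero]
      rw [hc] at hs
      linear_combination hs
    intro i hi
    rcases i with _ | i
    · rw [hc]; exact Ideal.mul_mem_right _ _ ha
    · have h1 := ih h' hs' i (by omega)
      simp only [h'] at h1
      split_ifs at h1 with h0
      · exact (Ideal.add_mem_iff_left _ (Ideal.mul_mem_left _ c hb)).1 h1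
      · simpa using h1

/-- A maximal ideal with two generators becomes principal or primary in a birational two-dimensional factorial
local extension. -/
theorem principal_or_primary {A B K : Type u} [CommRing A] [IsDomain A] [IsLocalRing A] [IsNoetherianRing A]
    [CommRing B] [IsDomain B] [IsLocalRing B] [UniqueFactorizationMonoid B] [Field K]
    (φ : A →+* B) [IsLocalHom φ] (ψA : A →+* K) (ψB : B →+* K) (hψB : Function.Injective ψB)
    (hcomm : ∀ a, ψB (φ a) = ψA a) (hfrac : ∀ k : K, ∃ r s : A, ψA s ≠ 0 ∧ k * ψA s = ψA r)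
    (hdim : ∀ P Q : Ideal B, P.IsPrime → Q.IsPrime → P ≠ ⊥ → P ≤ Q → Q ≠ IsLocalRing.maximalIdeal B → P = Q)
    (p q : A) (hm : IsLocalRing.maximalIdeal A = Ideal.span {p, q}) :
    (∃ t, (IsLocalRing.maximalIdeal A).map φ = Ideal.span {t}) ∨
      ∀ P : Ideal B, P.IsPrime → (IsLocalRing.maximalIdeal A).map φ ≤ P → P = IsLocalRing.maximalIdeal B := by
  classical
  have hmap : (IsLocalRing.maximalIdeal A).map φ = Ideal.span {φ p, φ q} := by
    rw [hm, Ideal.map_span, Set.image_pair]
  rw [hmap]
  by_cases hp0 : φ p = 0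
  · exact Or.inl ⟨φ q, by rw [hp0, Ideal.span_insert_zero]⟩
  by_cases hq0 : φ q = 0
  · exact Or.inl ⟨φ p, by rw [hq0, Set.pair_comm, Ideal.span_insert_zero]⟩
  obtain ⟨a, b, g, hab, hga, hgb⟩ := UniqueFactorizationMonoid.exists_reduced_factors (φ p) hp0 (φ q)
  have hspan : Ideal.span {φ p, φ q} = Ideal.span {g} * Ideal.span {a, b} := by
    rw [Ideal.span_mul_span', Set.singleton_mul, Set.image_pair, hga, hgb]
  by_cases hau : IsUnit a
  · exact Or.inl ⟨g, by rw [hspan, Ideal.eq_top_of_isUnit_mem _ (Ideal.subset_span (Set.mem_insert a {b})) hau, Ideal.mul_top]⟩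
  by_cases hbu : IsUnit b
  · exact Or.inl ⟨g, by rw [hspan, Ideal.eq_top_of_isUnit_mem _ (Ideal.subset_span (Set.mem_insert_of_mem a (Set.mem_singleton b))) hbu, Ideal.mul_top]⟩
  have ha : a ∈ IsLocalRing.maximalIdeal B := hau
  have hb : b ∈ IsLocalRing.maximalIdeal B := hbu
  have ha0 : a ≠ 0 := fun h => hp0 (by rw [← hga, h, mul_zero])
  have hb0 : b ≠ 0 := fun h => hq0 (by rw [← hgb, h, mul_zero])
  by_cases hgu : IsUnit g
  · refine Or.inr fun P hP hle => ?_
    by_contra hne
    rw [hspan, Ideal.eq_top_of_isUnit_mem _ (Ideal.mem_span_singleton_self g) hgu, Ideal.top_mul] at hle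
    have haP : a ∈ P := hle (Ideal.subset_span (Set.mem_insert a {b}))
    have hbP : b ∈ P := hle (Ideal.subset_span (Set.mem_insert_of_mem a (Set.mem_singleton b)))
    obtain ⟨π, hπP, hπ⟩ := hP.exists_mem_prime_of_ne_bot (fun h => ha0 (by rw [h] at haP; exact haP))
    have heq := hdim (Ideal.span {π}) P ((Ideal.span_singleton_prime hπ.ne_zero).2 hπ) hP
      (fun h => hπ.ne_zero (Ideal.span_singleton_eq_bot.1 h)) ((Ideal.span_singleton_le_iff_mem _).2 hπP) hne
    rw [← heq, Ideal.mem_span_singleton] at haP hbP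
    exact hπ.not_isUnit (hab haP hbP)
  exfalso
  have hg : g ∈ IsLocalRing.maximalIdeal B := hgu
  let z : K := ψB a / ψB b
  have hψb : ψB b ≠ 0 := (map_ne_zero_iff _ hψB).2 hb0
  let e : B[X] →+* K := Polynomial.eval₂RingHom ψB z
  let P' : Ideal B[X] := (IsLocalRing.maximalIdeal B).map (C : B →+* B[X])
  haveI : P'.IsPrime := Ideal.isPrime_map_C_of_isPrime
  have hker : RingHom.ker e ≤ P' := by
    intro h hh
    have hh' : e h = 0 := hh
    have hsum : ∑ i ∈ Finset.range (h.natDegree + 1), h.coeff i * (a ^ i * b ^ (h.natDegree - i)) = 0 := by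
      apply hψB
      rw [map_zero, map_sum]
      have h1 : ψB b ^ h.natDegree * e h = 0 := by rw [hh', mul_zero]
      rw [Polynomial.coe_eval₂RingHom, Polynomial.eval₂_eq_sum_range, Finset.mul_sum] at h1
      rw [← h1]
      refine Finset.sum_congr rfl fun i hi => ?_
      rw [Finset.mem_range] at hi
      simp only [map_mul, map_pow, z, div_pow]
      have : ψB b ^ h.natDegree = ψB b ^ (h.natDegree - i) * ψB b ^ i := by
        rw [← pow_add]; congr 1; omega
      rw [this]
      field_simp
    refine Ideal.mem_map_C_iff.2 fun i => ?_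
    by_cases hi : i ≤ h.natDegree
    · exact mem_maximalIdeal_of_sum_eq_zero ha hb ha0 hab _ _ hsum i hi
    · rw [Polynomial.coeff_eq_zero_of_natDegree_lt (by omega)]; exact zero_mem _
  let S : Subring K := e.range
  let P : Ideal S := P'.map e.rangeRestrict
  haveI : P.IsPrime := Ideal.map_isPrime_of_surjective e.rangeRestrict_surjective (by
    rwa [RingHom.ker_rangeRestrict])
  obtain ⟨V, hV⟩ := (LocalSubring.ofPrime S P).exists_le_valuationSubring
  let O := (LocalSubring.ofPrime S P).toSubring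
  have hmemO : ∀ f : B[X], e f ∈ O := fun f => LocalSubring.le_ofPrime S P ⟨f, rfl⟩
  have hmem : ∀ f : B[X], e f ∈ V := fun f => hV.1 (hmemO f)
  have hunit : ∀ f : B[X], (f ∉ P' → V.valuation (e f) = 1) ∧ (f ∈ P' → V.valuation (e f) < 1) := fun f => by
    have hiff : IsUnit (⟨e f, hmemO f⟩ : O) ↔ f ∉ P' := by
      have h1 := IsLocalization.AtPrime.isUnit_to_map_iff O P (e.rangeRestrict f)
      rw [show algebraMap S O (e.rangeRestrict f) = ⟨e f, hmemO f⟩ from rfl] at h1
      rw [h1]
      show e.rangeRestrict f ∉ P ↔ _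
      refine not_congr ⟨fun hf => ?_, fun hf => Ideal.mem_map_of_mem _ hf⟩
      obtain ⟨g', hg', hge⟩ := (Ideal.mem_map_iff_of_surjective _ e.rangeRestrict_surjective).1 hf
      have : f - g' ∈ P' := hker (by
        rw [RingHom.mem_ker, map_sub, sub_eq_zero]
        exact (congrArg Subtype.val hge).symm)
      simpa using add_mem this hg'
    haveI := hV.2
    have hiff' : IsUnit (⟨e f, hmem f⟩ : V) ↔ f ∉ P' := by
      rw [← hiff]
      exact ⟨fun hu => @IsLocalHom.map_nonunit _ _ _ _ _ _ (Subring.inclusion hV.1) hV.2 _ hu,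
        fun hu => hu.map (Subring.inclusion hV.1)⟩
    refine ⟨fun hf => (V.valuation_eq_one_iff ⟨e f, hmem f⟩).1 (hiff'.2 hf), fun hf => ?_⟩
    exact (V.valuation_lt_one_iff ⟨e f, hmem f⟩).1 fun hu => hiff'.1 hu hf
  have hBlt : ∀ x ∈ IsLocalRing.maximalIdeal B, V.valuation (ψB x) < 1 := fun x hx => by
    have := (hunit (C x)).2 (Ideal.mem_map_of_mem _ hx)
    rwa [Polynomial.coe_eval₂RingHom, Polynomial.eval₂_C] at this
  let γ := V.valuation (ψA q)
  have hγ1 : γ < 1 := by
    show V.valuation (ψA q) < 1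
    rw [← hcomm]
    exact hBlt _ (by rw [← hgb]; exact Ideal.mul_mem_left _ g hb)
  have hψq : ψA q ≠ 0 := by rw [← hcomm]; exact (map_ne_zero_iff _ hψB).2 hq0
  have hγ0 : 0 < γ := zero_lt_iff.2 ((Valuation.ne_zero_iff _).2 hψq)
  have hz : ψA p = z * ψA q := by
    rw [← hcomm, ← hcomm, ← hga, ← hgb, map_mul, map_mul]
    simp only [z]
    field_simp
  have hA : ∀ f : A, f ≠ 0 → ∃ n : ℕ, V.valuation (ψA f) = γ ^ n := fun f hf => by
    obtain ⟨n, hn, hn'⟩ : ∃ n, f ∈ IsLocalRing.maximalIdeal A ^ n ∧ f ∉ IsLocalRing.maximalIdeal A ^ (n + 1) := by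
      by_contra hc
      push Not at hc
      have hall : ∀ n, f ∈ IsLocalRing.maximalIdeal A ^ n := fun n => by
        induction n with
        | zero => simp
        | succ n ih => exact hc n ih
      have hinf := Ideal.iInf_pow_eq_bot_of_isLocalRing (IsLocalRing.maximalIdeal A) (Ideal.IsPrime.ne_top inferInstance)
      exact hf ((Submodule.mem_bot A).mp (hinf ▸ (Submodule.mem_iInf _).mpr hall))
    obtain ⟨c, rfl⟩ := exists_sum_of_mem_span_pair_pow p q n f (hm ▸ hn)
    refine ⟨n, ?_⟩
    let F : B[X] := ∑ i ∈ Finset.range (n + 1), C (φ (c i)) * X ^ i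
    have hF : F ∉ P' := fun hF => hn' (by
      rw [pow_succ']
      refine Ideal.sum_mem _ fun i hi => Ideal.mul_mem_mul ?_ ?_
      · by_contra hci
        have h1 := Ideal.mem_map_C_iff.1 hF i
        rw [Polynomial.finsetSum_coeff, Finset.sum_eq_single i (fun j _ hj => by
          rw [Polynomial.coeff_C_mul_X_pow, if_neg (Ne.symm hj)]) (fun h => absurd hi h),
          Polynomial.coeff_C_mul_X_pow, if_pos rfl] at h1
        exact h1 ((IsUnit.map φ (not_not.1 hci : IsUnit (c i))))
      · rw [Finset.mem_range] at hi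
        rw [show n = i + (n - i) by omega, pow_add]
        simp only [Nat.add_sub_cancel_left]
        refine Ideal.mul_mem_mul (Ideal.pow_mem_pow ?_ i) (Ideal.pow_mem_pow ?_ _) <;>
          rw [hm] <;> exact Ideal.subset_span (by simp))
    have hsum : ψA (∑ i ∈ Finset.range (n + 1), c i * (p ^ i * q ^ (n - i))) = ψA q ^ n * e F := by
      rw [map_sum, map_sum, Finset.mul_sum]
      refine Finset.sum_congr rfl fun i hi => ?_
      rw [Finset.mem_range] at hi
      simp only [map_mul, map_pow, Polynomial.coe_eval₂RingHom, Polynomial.eval₂_C, Polynomial.eval₂_X, hcomm, hz,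
        mul_pow, e]
      rw [show n = i + (n - i) by omega, pow_add]
      simp only [Nat.add_sub_cancel_left]
      ring
    rw [hsum, map_mul, map_pow, (hunit F).1 hF, mul_one]
  obtain ⟨r, s, hs, hrs⟩ := hfrac (ψB g)
  have hg0 : g ≠ 0 := fun h => hp0 (by rw [← hga, h, zero_mul])
  have hr : r ≠ 0 := fun h => by
    rw [h, map_zero, mul_eq_zero] at hrs
    exact hrs.elim ((map_ne_zero_iff _ hψB).2 hg0) hs
  obtain ⟨i, hi⟩ := hA r hr
  obtain ⟨j, hj⟩ := hA s (fun h => hs (by rw [h, map_zero]))
  have hwg : V.valuation (ψB g) * γ ^ j = γ ^ i := by rw [← hj, ← map_mul, hrs, hi]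
  have hij : j < i := by
    by_contra h
    push Not at h
    have h1 : γ ^ j ≤ γ ^ i := pow_le_pow_right_of_le_one' hγ1.le h
    have h2 : V.valuation (ψB g) * γ ^ j < 1 * γ ^ j := mul_lt_mul_of_pos_right (hBlt g hg) (pow_pos hγ0 _)
    rw [hwg, one_mul] at h2
    exact absurd h2 (not_lt.2 h1)
  have hle : V.valuation (ψB g) ≤ γ := by
    refine le_of_mul_le_mul_right ?_ (pow_pos hγ0 j)
    rw [hwg, ← pow_succ']
    exact pow_le_pow_right_of_le_one' hγ1.le hij
  have : γ < γ := by
    calc γ = V.valuation (ψB g) * V.valuation (ψB b) := by rw [← map_mul, ← map_mul, hgb, hcomm]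
      _ ≤ γ * V.valuation (ψB b) := mul_le_mul_of_nonneg_right hle zero_le
      _ < γ * 1 := mul_lt_mul_of_pos_left (hBlt b hb) hγ0
      _ = γ := mul_one γ
  exact lt_irrefl _ this

end Groth.Agent.RelMin
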