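import Groth.Agent.Lib.RelMin32.Basic
import Groth.Agent.Lib.RelMin32.Quadratic
import Groth.Agent.Lib.EffCartier.Comap
import Groth.Agent.Lib.ModM1.Stalk
import Groth.Agent.Lib.RegLoc.UFD
import Groth.Agent.S15544
import Groth.Prelude.Def_BlowUp2
import Mathlib

/-!
# A birational morphism with a positive-dimensional fibre makes the point an effective Cartier divisor
-/

set_option autoImplicit false
set_option linter.style.haveILetI false
set_option linter.unusedSectionVars false
set_option backward.isDefEq.respectTransparency false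
set_option maxHeartbeats 1000000

universe u

open CategoryTheory CategoryTheory.Limits AlgebraicGeometry TopologicalSpace

namespace Groth.Agent.RelMin

theorem isDomain_normal {A : Type u} [CommRing A] [IsRegularLocalRing A] :
    IsDomain A ∧ IsIntegrallyClosed A := by
  haveI := Groth.Agent.RegLoc.isDomain A
  haveI := Groth.Agent.RegLoc.ufd_of_isRegularLocalRing A
  exact ⟨inferInstance, inferInstance⟩

theorem fromSpecStalk_specializes {X : Scheme.{u}} {x : X} {P Q : PrimeSpectrum (X.presheaf.stalk x)}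
    (h : P.asIdeal ≤ Q.asIdeal) : X.fromSpecStalk x P ⤳ X.fromSpecStalk x Q :=
  ((PrimeSpectrum.le_iff_specializes P Q).1 h).map (X.fromSpecStalk x).continuous

theorem fromSpecStalk_specializes_self {X : Scheme.{u}} {x : X} (P : PrimeSpectrum (X.presheaf.stalk x)) :
    X.fromSpecStalk x P ⤳ x := by
  have : X.fromSpecStalk x P ∈ Set.range (X.fromSpecStalk x) := ⟨P, rfl⟩
  rw [Scheme.range_fromSpecStalk] at this
  exact this

theorem ringKrullDim_stalk_le {X : Scheme.{u}} (h : NoChain X) (x : X) :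
    ringKrullDim (X.presheaf.stalk x) ≤ 2 := by
  refine iSup_le fun s => ?_
  rcases le_or_gt s.length 2 with hs | hs
  · exact_mod_cast hs
  exfalso
  have hlt : ∀ i j : Fin (s.length + 1), i < j → X.fromSpecStalk x (s i) ⤳ X.fromSpecStalk x (s j) ∧
      X.fromSpecStalk x (s i) ≠ X.fromSpecStalk x (s j) := fun i j hij =>
    ⟨fromSpecStalk_specializes (s.strictMono hij).le,
      fun he => (s.strictMono hij).ne ((X.fromSpecStalk x).isEmbedding.injective he)⟩
  obtain ⟨h1, n1⟩ := hlt ⟨0, by omega⟩ ⟨1, by omega⟩ (by simp [Fin.lt_def])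
  obtain ⟨h2, n2⟩ := hlt ⟨1, by omega⟩ ⟨2, by omega⟩ (by simp [Fin.lt_def])
  obtain ⟨h3, n3⟩ := hlt ⟨2, by omega⟩ ⟨3, by omega⟩ (by simp [Fin.lt_def])
  exact h _ _ _ _ h1 h2 h3 n1 n2 n3

variable {X Y : Scheme.{u}} [IsIntegral X] [IsIntegral Y] [AlgebraicGeometry.IsNoetherian X] [IsLocallyNoetherian Y]
  (f : X ⟶ Y) [IsProper f] (hgen : f (genericPoint X) = genericPoint Y)
  [hbir : IsIso (f.stalkMap (genericPoint X))] (hY : ∀ q : Y, IsIntegrallyClosed (Y.presheaf.stalk q))
  {y : Y} (hy : IsClosed ({y} : Set Y))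

include hgen hY in
omit [AlgebraicGeometry.IsNoetherian X] in
theorem isPreconnected_fibre (z : Y) : _root_.IsPreconnected (f ⁻¹' {z}) := by
  haveI := Groth.Agent.S15544.result (fun q => ⟨inferInstance, hY q⟩) f hgen hbir z
  rw [← f.range_fiberι z]
  exact isPreconnected_range (f.fiberι z).continuous

include hgen hY hy in
/-- A closed point of a fibre with several points has a generization inside the fibre. -/
theorem exists_generization_in_fibre (hbig : ∃ x x' : X, x ≠ x' ∧ f x = y ∧ f x' = y) {x : X} (hx : f x = y)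
    (hxc : IsClosed ({x} : Set X)) : ∃ w, w ⤳ x ∧ w ≠ x ∧ f w = y := by
  by_contra hh
  push Not at hh
  obtain ⟨S, hS, hS1, hS2, hSeq⟩ := NoetherianSpace.exists_finite_set_isClosed_irreducible
    (hy.preimage f.continuous)
  let C : Set X := ⋃ T ∈ {T ∈ S | x ∉ T}, T
  have hC : IsClosed C := (hS.subset (Set.sep_subset _ _)).isClosed_biUnion fun T hT => hS1 T hT.1
  have hcov : f ⁻¹' {y} ⊆ {x} ∪ C := fun v hv => by
    obtain ⟨T, hT, hvT⟩ := Set.mem_sUnion.1 (hSeq ▸ hv : v ∈ ⋃₀ S)
    by_cases hxT : x ∈ T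
    · obtain ⟨g, hg⟩ := QuasiSober.sober (hS2 T hT) (hS1 T hT)
      have hgy : f g = y := by
        have : g ∈ f ⁻¹' {y} := hSeq ▸ Set.mem_sUnion_of_mem hg.mem hT
        exact this
      have hgx : g = x := by
        by_contra hne
        exact hh g (hg.specializes hxT) hne hgy
      left
      rw [← hg.def, hgx, hxc.closure_eq] at hvT
      exact hvT
    · exact Or.inr (Set.mem_biUnion (show T ∈ {T ∈ S | x ∉ T} from ⟨hT, hxT⟩) hvT)
  obtain ⟨v, hv, hvx⟩ : ∃ v, f v = y ∧ v ≠ x := by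
    obtain ⟨a, b, hab, ha, hb⟩ := hbig
    by_cases hax : a = x
    · exact ⟨b, hb, fun hbx => hab (hax.trans hbx.symm)⟩
    · exact ⟨a, ha, hax⟩
  have hvC : v ∈ C := (hcov hv).resolve_left hvx
  obtain ⟨w, -, hw1, hw2⟩ := isPreconnected_closed_iff.1 (isPreconnected_fibre f hgen hY y) {x} C hxc hC hcov
    ⟨x, hx, rfl⟩ ⟨v, hv, hvC⟩
  obtain ⟨T, hT, hwT⟩ := Set.mem_iUnion₂.1 hw2
  exact hT.2 (hw1 ▸ hwT)

include hgen hY hy in
theorem not_valuationRing (hbig : ∃ x x' : X, x ≠ x' ∧ f x = y ∧ f x' = y) :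
    ¬ ValuationRing (Y.presheaf.stalk y) := by
  intro hv
  obtain ⟨x₀, -, -, hx₀, -⟩ := id hbig
  obtain ⟨c, hc, hcl⟩ := (hy.preimage f.continuous).exists_closed_singleton ⟨x₀, hx₀⟩
  obtain ⟨w, hw, hne, hwy⟩ := exists_generization_in_fibre f hgen hY hy hbig (hc : f c = y) hcl
  haveI : ValuationRing (Y.presheaf.stalk (f c)) := by rw [show f c = y from hc]; exact hv
  exact hne (DVRTensor.eq_of_specializes_of_valuationRing f hgen hw (hwy.trans (hc : f c = y).symm))

include hgen hy in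
/-- The maximal ideal of the point becomes principal on the source. -/
theorem exists_principal (hX : NoChain X) (hXreg : ∀ x : X, IsRegularLocalRing (X.presheaf.stalk x))
    (hYc : NoChain Y) (hYreg : ∀ q : Y, IsRegularLocalRing (Y.presheaf.stalk q))
    (hbig : ∃ x x' : X, x ≠ x' ∧ f x = y ∧ f x' = y) (x : X) (hx : f x = y) :
    ∃ t, (IsLocalRing.maximalIdeal (Y.presheaf.stalk (f x))).map (f.stalkMap x).hom = Ideal.span {t} := by
  classical
  have hY : ∀ q, IsIntegrallyClosed (Y.presheaf.stalk q) := fun q => haveI := hYreg q; isDomain_normal.2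
  haveI := hXreg x
  haveI := hYreg (f x)
  haveI := Groth.Agent.RegLoc.ufd_of_isRegularLocalRing (X.presheaf.stalk x)
  let A := Y.presheaf.stalk (f x)
  let B := X.presheaf.stalk x
  -- two generators
  obtain ⟨s, hs, hspan⟩ := (_root_.IsNoetherian.noetherian (IsLocalRing.maximalIdeal A)).exists_span_finset_card_eq_spanFinrank
  have hcard : s.card ≤ 2 := by
    have h1 : ((IsLocalRing.maximalIdeal A).spanFinrank : WithBot ℕ∞) ≤ 2 := by
      rw [IsRegularLocalRing.spanFinrank_maximalIdeal]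
      exact ringKrullDim_stalk_le hYc (f x)
    rw [hs]
    exact_mod_cast h1
  obtain ⟨p, q, hpq⟩ : ∃ p q : A, IsLocalRing.maximalIdeal A = Ideal.span {p, q} := by
    have e : IsLocalRing.maximalIdeal A = Ideal.span (s : Set A) := hspan.symm
    rcases Nat.lt_or_ge s.card 2 with h2 | h2
    · rcases Nat.lt_or_ge s.card 1 with h1 | h1
      · refine ⟨0, 0, ?_⟩
        rw [e, Finset.card_eq_zero.1 (by omega : s.card = 0)]
        simp
      · obtain ⟨a, rfl⟩ := Finset.card_eq_one.1 (by omega : s.card = 1)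
        exact ⟨a, a, by rw [e]; simp⟩
    · obtain ⟨a, b, -, rfl⟩ := Finset.card_eq_two.1 (by omega : s.card = 2)
      exact ⟨a, b, by rw [e]; simp⟩
  have hsx : genericPoint X ⤳ x := genericPoint_specializes x
  let ψB : B →+* X.functionField := (X.presheaf.stalkSpecializes hsx).hom
  let φ : A →+* B := (f.stalkMap x).hom
  let σ := (f.stalkMap (genericPoint X)).hom
  have hψ : ∀ a, ψB (φ a) = σ ((Y.presheaf.stalkSpecializes (hsx.map f.continuous)).hom a) := fun a =>
    (Scheme.Hom.stalkSpecializes_stalkMap_apply f (genericPoint X) x hsx a).symm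
  have hfrac : ∀ k : X.functionField, ∃ r t : A, (ψB.comp φ) t ≠ 0 ∧ k * (ψB.comp φ) t = (ψB.comp φ) r := fun k => by
    obtain ⟨k₀, rfl⟩ := (ConcreteCategory.bijective_of_isIso (f.stalkMap (genericPoint X))).2 k
    letI : Algebra A (Y.presheaf.stalk (f (genericPoint X))) :=
      (Y.presheaf.stalkSpecializes (hsx.map f.continuous)).hom.toAlgebra
    haveI : IsFractionRing A (Y.presheaf.stalk (f (genericPoint X))) := by
      have : ∀ (ζ : Y) (hζ : ζ = genericPoint Y) (hsp : ζ ⤳ f x),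
          @IsFractionRing A _ (Y.presheaf.stalk ζ) _ (Y.presheaf.stalkSpecializes hsp).hom.toAlgebra := by
        rintro ζ rfl hsp
        exact (inferInstance : IsFractionRing A Y.functionField)
      exact this _ hgen (hsx.map f.continuous)
    obtain ⟨⟨r, t⟩, hrt⟩ := IsLocalization.surj (nonZeroDivisors A) k₀
    refine ⟨r, t, ?_, ?_⟩
    · rw [RingHom.comp_apply, hψ]
      refine (map_ne_zero_iff _ (ConcreteCategory.bijective_of_isIso (f.stalkMap (genericPoint X))).1).2 ?_
      exact (map_ne_zero_iff _ (IsFractionRing.injective A (Y.presheaf.stalk (f (genericPoint X))))).2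
        (nonZeroDivisors.ne_zero t.2)
    · rw [RingHom.comp_apply, RingHom.comp_apply, hψ, hψ]
      show σ k₀ * _ = _
      rw [← map_mul]
      exact congrArg σ hrt
  have hdim : ∀ P Q : Ideal B, P.IsPrime → Q.IsPrime → P ≠ ⊥ → P ≤ Q → Q ≠ IsLocalRing.maximalIdeal B → P = Q := by
    intro P Q hP hQ hP0 hPQ hQm
    by_contra hne
    let w : PrimeSpectrum B → X := X.fromSpecStalk x
    have hinj : Function.Injective w := (X.fromSpecStalk x).isEmbedding.injective
    refine hX (w ⟨⊥, Ideal.isPrime_bot⟩) (w ⟨P, hP⟩) (w ⟨Q, hQ⟩) (w (IsLocalRing.closedPoint B))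
      (fromSpecStalk_specializes bot_le) (fromSpecStalk_specializes hPQ)
      (fromSpecStalk_specializes (IsLocalRing.le_maximalIdeal hQ.ne_top))
      (fun h => hP0 (congrArg PrimeSpectrum.asIdeal (hinj h)).symm)
      (fun h => hne (congrArg PrimeSpectrum.asIdeal (hinj h)))
      (fun h => hQm (congrArg PrimeSpectrum.asIdeal (hinj h)))
  rcases principal_or_primary φ (ψB.comp φ) ψB (IsFractionRing.injective B X.functionField) (fun _ => rfl)
      hfrac hdim p q hpq with h | h
  · exact h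
  by_cases hxc : IsClosed ({x} : Set X)
  · exfalso
    obtain ⟨w, hw, hne, hwy⟩ := exists_generization_in_fibre f hgen hY hy hbig hx hxc
    obtain ⟨P, hP⟩ : w ∈ Set.range (X.fromSpecStalk x) := by rw [Scheme.range_fromSpecStalk]; exact hw
    have hPm : (Spec.map (f.stalkMap x)) P = IsLocalRing.closedPoint A := by
      apply (Y.fromSpecStalk (f x)).isEmbedding.injective
      rw [Scheme.fromSpecStalk_closedPoint, ← Scheme.Hom.comp_apply, Scheme.SpecMap_stalkMap_fromSpecStalk,
        Scheme.Hom.comp_apply, hP, hwy, hx]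
    have hle : (IsLocalRing.maximalIdeal A).map φ ≤ P.asIdeal := by
      rw [Ideal.map_le_iff_le_comap]
      exact (congrArg PrimeSpectrum.asIdeal hPm).ge
    refine hne (hP.symm.trans ?_)
    rw [show P = IsLocalRing.closedPoint B from PrimeSpectrum.ext (h _ P.isPrime hle)]
    exact Scheme.fromSpecStalk_closedPoint
  · -- a non-closed point: the local ring is at most one-dimensional
    obtain ⟨c, hc, hcx⟩ : ∃ c, c ∈ closure ({x} : Set X) ∧ c ≠ x := by
      by_contra hh
      push Not at hh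
      exact hxc (closure_eq_iff_isClosed.1 (Set.Subset.antisymm (fun c hc => hh c hc) subset_closure))
    haveI : IsIntegrallyClosed B := isDomain_normal.2
    have hT : IsIntegrallyClosed B ∧ (∀ P : Ideal B, P ≠ ⊥ → P.IsPrime → P = IsLocalRing.maximalIdeal B) →
        IsPrincipalIdealRing B := ((tfae_of_isNoetherianRing_of_isLocalRing_of_isDomain B).out 3 0).1
    haveI : IsPrincipalIdealRing B := hT ⟨inferInstance, fun P hP0 hP => by
      by_contra hne
      let w : PrimeSpectrum B → X := X.fromSpecStalk x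
      have hinj : Function.Injective w := (X.fromSpecStalk x).isEmbedding.injective
      have hwx : w (IsLocalRing.closedPoint B) = x := Scheme.fromSpecStalk_closedPoint
      refine hX (w ⟨⊥, Ideal.isPrime_bot⟩) (w ⟨P, hP⟩) (w (IsLocalRing.closedPoint B)) c
        (fromSpecStalk_specializes bot_le) (fromSpecStalk_specializes (IsLocalRing.le_maximalIdeal hP.ne_top))
        (by rw [hwx]; exact specializes_iff_mem_closure.2 hc)
        (fun h => hP0 (congrArg PrimeSpectrum.asIdeal (hinj h)).symm)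
        (fun h => hne (congrArg PrimeSpectrum.asIdeal (hinj h))) (by rw [hwx]; exact hcx.symm)⟩
    obtain ⟨t, ht⟩ := IsPrincipalIdealRing.principal ((IsLocalRing.maximalIdeal A).map φ)
    exact ⟨t, ht⟩

omit [AlgebraicGeometry.IsNoetherian X] [IsLocallyNoetherian Y] [IsProper f] hbir in
theorem map_germ_vanishing (Z : Closeds Y) (U : Y.affineOpens) (z : Y) (hz : z ∈ U.1)
    (hZ : ∀ w ∈ U.1, w ∈ Z ↔ w = z) :
    ((Scheme.IdealSheafData.vanishingIdeal Z).ideal U).map (Y.presheaf.germ U.1 z hz).hom =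
      IsLocalRing.maximalIdeal (Y.presheaf.stalk z) := by
  have hpre : (U.2.fromSpec ⁻¹' (Z : Set Y)) = {U.2.primeIdealOf ⟨z, hz⟩} := by
    ext P
    have hPU : U.2.fromSpec P ∈ U.1 := U.2.range_fromSpec.le ⟨P, rfl⟩
    rw [Set.mem_preimage, SetLike.mem_coe, hZ _ hPU, Set.mem_singleton_iff]
    constructor
    · intro h
      exact U.2.fromSpec.isOpenEmbedding.injective (h.trans (U.2.fromSpec_primeIdealOf ⟨z, hz⟩).symm)
    · rintro rfl
      exact U.2.fromSpec_primeIdealOf ⟨z, hz⟩
  rw [Scheme.IdealSheafData.vanishingIdeal_ideal, hpre, PrimeSpectrum.vanishingIdeal_singleton]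
  letI := TopCat.Presheaf.algebra_section_stalk Y.presheaf (⟨z, hz⟩ : U.1)
  haveI := U.2.isLocalization_stalk ⟨z, hz⟩
  exact IsLocalization.AtPrime.map_eq_maximalIdeal (U.2.primeIdealOf ⟨z, hz⟩).asIdeal (Y.presheaf.stalk z)

include hgen in
theorem isEffCartierIdeal_comap (hX : NoChain X) (hXreg : ∀ x : X, IsRegularLocalRing (X.presheaf.stalk x))
    (hYc : NoChain Y) (hYreg : ∀ q : Y, IsRegularLocalRing (Y.presheaf.stalk q))
    (hbig : ∃ x x' : X, x ≠ x' ∧ f x = y ∧ f x' = y) :
    BlowUp.IsEffCartierIdeal ((Scheme.IdealSheafData.vanishingIdeal ⟨{y}, hy⟩).comap f) := by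
  classical
  intro x
  let I := Scheme.IdealSheafData.vanishingIdeal (X := Y) ⟨{y}, hy⟩
  by_cases hx : f x = y
  swap
  · obtain ⟨U, hU, hxU, hUy⟩ := exists_isAffineOpen_mem_and_subset (X := Y) (x := f x)
      (U := (⟨{y}ᶜ, hy.isOpen_compl⟩ : Y.Opens)) hx
    obtain ⟨V, hV, hxV, hVU⟩ := exists_isAffineOpen_mem_and_subset (X := X) (x := x) (U := f ⁻¹ᵁ U) hxU
    refine ⟨⟨V, hV⟩, hxV, 1, one_mem _, ?_⟩
    rw [EffCartier.comap_ideal I f ⟨U, hU⟩ ⟨V, hV⟩ hVU, Scheme.IdealSheafData.vanishingIdeal_ideal,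
      show hU.fromSpec ⁻¹' (((⟨{y}, hy⟩ : Closeds Y) : Closeds Y) : Set Y) = ∅ from
        Set.eq_empty_of_forall_notMem fun P hP => hUy (hU.range_fromSpec.le ⟨P, rfl⟩) hP,
      PrimeSpectrum.vanishingIdeal_empty, Ideal.map_top, Ideal.span_singleton_one]
  obtain ⟨U, hU, hxU, -⟩ := exists_isAffineOpen_mem_and_subset (X := Y) (x := f x) (U := ⊤) trivial
  obtain ⟨V, hV, hxV, hVU⟩ := exists_isAffineOpen_mem_and_subset (X := X) (x := x) (U := f ⁻¹ᵁ U) hxU
  obtain ⟨τ, hτ⟩ := exists_principal f hgen hy hX hXreg hYc hYreg hbig x hx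
  haveI : Nonempty V := ⟨⟨x, hxV⟩⟩
  haveI : IsNoetherianRing Γ(X, V) := IsLocallyNoetherian.component_noetherian ⟨V, hV⟩
  let J : Ideal Γ(X, V) := (I.comap f).ideal ⟨V, hV⟩
  have hJ : J = (I.ideal ⟨U, hU⟩).map (f.appLE U V hVU).hom := EffCartier.comap_ideal I f ⟨U, hU⟩ ⟨V, hV⟩ hVU
  let g := X.presheaf.germ V x hxV
  have hcomp : (f.appLE U V hVU) ≫ g = Y.presheaf.germ U (f x) hxU ≫ f.stalkMap x := by
    rw [Scheme.Hom.appLE, Category.assoc, TopCat.Presheaf.germ_res, Scheme.Hom.germ_stalkMap]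
  have hJx : J.map g.hom = Ideal.span {τ} := by
    rw [hJ, Ideal.map_map, ← CommRingCat.hom_comp, hcomp, CommRingCat.hom_comp, ← Ideal.map_map,
      map_germ_vanishing ⟨{y}, hy⟩ ⟨U, hU⟩ (f x) hxU (fun w _ => by
        rw [hx]; exact Iff.rfl)]
    exact hτ
  letI := TopCat.Presheaf.algebra_section_stalk X.presheaf (⟨x, hxV⟩ : V)
  haveI := hV.isLocalization_stalk ⟨x, hxV⟩
  let M := (hV.primeIdealOf ⟨x, hxV⟩).asIdeal.primeCompl
  have hJx' : J.map (algebraMap Γ(X, V) (X.presheaf.stalk x)) = Ideal.span {τ} := hJx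
  obtain ⟨⟨⟨j, hjJ⟩, c⟩, hjc⟩ := (IsLocalization.mem_map_algebraMap_iff M _).1
    (hJx' ▸ Ideal.mem_span_singleton_self τ : τ ∈ J.map (algebraMap Γ(X, V) (X.presheaf.stalk x)))
  have hjspan : J.map (algebraMap Γ(X, V) (X.presheaf.stalk x)) =
      Ideal.span {algebraMap Γ(X, V) (X.presheaf.stalk x) j} := by
    rw [hJx', ← hjc, Ideal.span_singleton_mul_right_unit (IsLocalization.map_units _ c)]
  obtain ⟨G, hG⟩ := _root_.IsNoetherian.noetherian J
  have hker : ∀ a ∈ G, ∃ e : M, (e : Γ(X, V)) * a ∈ Ideal.span {j} := fun a ha => by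
    have h1 : algebraMap Γ(X, V) (X.presheaf.stalk x) a ∈ (Ideal.span {j}).map (algebraMap Γ(X, V) (X.presheaf.stalk x)) := by
      rw [Ideal.map_span, Set.image_singleton, ← hjspan]
      exact Ideal.mem_map_of_mem _ (hG.le (Ideal.subset_span ha))
    obtain ⟨e, he, h2⟩ := (IsLocalization.algebraMap_mem_map_algebraMap_iff M _ _ _).1 h1
    exact ⟨⟨e, he⟩, h2⟩
  choose e he using hker
  let r : Γ(X, V) := ∏ a : G, (e a.1 a.2 : Γ(X, V))
  have hxr : x ∈ X.basicOpen r := by
    rw [X.mem_basicOpen r x hxV]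
    exact (M1.isUnit_germ_iff hV hxV r).2 (prod_mem fun (a : G) _ => (e a.1 a.2).2)
  let V' : X.affineOpens := ⟨X.basicOpen r, hV.basicOpen r⟩
  let res : Γ(X, V) →+* Γ(X, X.basicOpen r) := (X.presheaf.map (homOfLE (X.basicOpen_le r)).op).hom
  haveI : Nonempty (X.basicOpen r) := ⟨⟨x, hxr⟩⟩
  have hideal : (I.comap f).ideal V' = J.map res :=
    (Scheme.IdealSheafData.map_ideal (I.comap f) (U := V') (V := ⟨V, hV⟩) (X.basicOpen_le r)).symm
  have hru : IsUnit (res r) := X.toRingedSpace.isUnit_res_basicOpen r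
  have hspan' : J.map res = Ideal.span {res j} := by
    refine le_antisymm ?_ ((Ideal.span_singleton_le_iff_mem _).2 (Ideal.mem_map_of_mem _ hjJ))
    conv_lhs => rw [← hG]
    rw [Ideal.map_span, Ideal.span_le]
    rintro _ ⟨a, ha, rfl⟩
    obtain ⟨k, hk⟩ := Ideal.mem_span_singleton'.1 (he a ha)
    have hdvd : (e a ha : Γ(X, V)) ∣ r := Finset.dvd_prod_of_mem (fun a : G => (e a.1 a.2 : Γ(X, V))) (Finset.mem_univ ⟨a, ha⟩)
    obtain ⟨v, hv⟩ := isUnit_of_dvd_unit (map_dvd res hdvd) hru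
    refine Ideal.mem_span_singleton'.2 ⟨↑v⁻¹ * res k, ?_⟩
    rw [mul_assoc, ← map_mul, hk, map_mul, ← hv, Units.inv_mul_cancel_left]
  refine ⟨V', hxr, res j, ?_, hideal.trans hspan'⟩
  refine mem_nonZeroDivisors_of_ne_zero fun h0 => ?_
  -- the ideal is not zero
  have hzero : τ = 0 := by
    have h1 : algebraMap Γ(X, V) (X.presheaf.stalk x) j = 0 := by
      show (X.presheaf.germ V x hxV).hom j = 0
      rw [← TopCat.Presheaf.germ_res_apply X.presheaf (homOfLE (X.basicOpen_le r)) x hxr j]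
      exact (congrArg _ h0).trans (map_zero _)
    have h2 := Ideal.mem_span_singleton_self τ
    rw [← hJx', hjspan, h1, Ideal.mem_span_singleton, zero_dvd_iff] at h2
    exact h2
  rw [hzero, Ideal.span_singleton_zero] at hτ
  have hY : ∀ q, IsIntegrallyClosed (Y.presheaf.stalk q) := fun q => haveI := hYreg q; isDomain_normal.2
  refine not_valuationRing f hgen hY hy hbig ?_
  rw [← hx]
  haveI := hYreg (f x)
  haveI := isDomain_normal (A := Y.presheaf.stalk (f x))
  have hinj : Function.Injective (f.stalkMap x).hom := by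
    intro a b hab
    have h1 := Scheme.Hom.stalkSpecializes_stalkMap_apply f (genericPoint X) x (genericPoint_specializes x)
    have h2 := (congrArg (X.presheaf.stalkSpecializes (genericPoint_specializes x)).hom hab)
    erw [← h1, ← h1] at h2
    have h3 := (ConcreteCategory.bijective_of_isIso (f.stalkMap (genericPoint X))).1 h2
    have : ∀ (ζ : Y) (hζ : ζ = genericPoint Y) (hsp : ζ ⤳ f x),
        Function.Injective (Y.presheaf.stalkSpecializes hsp).hom := by
      rintro ζ rfl hsp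
      exact IsFractionRing.injective (Y.presheaf.stalk (f x)) Y.functionField
    exact this _ hgen _ h3
  have hm : IsLocalRing.maximalIdeal (Y.presheaf.stalk (f x)) = ⊥ := (Ideal.map_eq_bot_iff_of_injective hinj).1 hτ
  haveI : IsDomain (Y.presheaf.stalk (f x)) := isDomain_normal.1
  letI := ((IsLocalRing.isField_iff_maximalIdeal_eq).2 hm).toField
  infer_instance

end Groth.Agent.RelMin
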