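import Groth.Prelude.Def_Neron
import Groth.Agent.Lib.FlatClosure19.Basic
import Groth.Agent.Lib.LocImm12.Basic
import Groth.Agent.Lib.Fibration13.Basic
import Groth.Agent.Lib.DVRTensor.Rigid
import Groth.Agent.Lib.Stein6.StrictLocal
import Mathlib

/-!
# Birational morphisms of surfaces over a Dedekind domain
-/

set_option autoImplicit false
set_option linter.style.haveILetI false
set_option linter.unusedSectionVars false
set_option backward.isDefEq.respectTransparency false

universe u

open CategoryTheory CategoryTheory.Limits AlgebraicGeometry TopologicalSpace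

namespace Groth.Agent.RelMin

/-- No chain of four distinct specialisations. -/
def NoChain (X : Scheme.{u}) : Prop :=
  ∀ a b c d : X, a ⤳ b → b ⤳ c → c ⤳ d → a ≠ b → b ≠ c → c ≠ d → False

theorem noChain_of_dim {X : Scheme.{u}} (h : topologicalKrullDim X ≤ 2) : NoChain X := by
  intro a b c d hab hbc hcd nab nbc ncd
  let K : X → IrreducibleCloseds X := fun z =>
    ⟨closure {z}, isIrreducible_singleton.closure, isClosed_closure⟩
  have hlt : ∀ {p q : X}, p ⤳ q → p ≠ q → K q < K p := fun {p q} hpq hne => by
    refine lt_of_le_of_ne (specializes_iff_closure_subset.mp hpq) fun he => hne ?_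
    have he' : closure ({q} : Set X) = closure {p} := congrArg (fun Z : IrreducibleCloseds X => (Z : Set X)) he
    exact (hpq.antisymm (specializes_iff_closure_subset.mpr he'.ge)).eq
  let s : LTSeries (IrreducibleCloseds X) :=
    { length := 3
      toFun := ![K d, K c, K b, K a]
      step := fun i => by
        fin_cases i
        · exact hlt hcd ncd
        · exact hlt hbc nbc
        · exact hlt hab nab }
  have h1 := Order.LTSeries.length_le_krullDim s
  have h2 : (s.length : WithBot ℕ∞) ≤ 2 := h1.trans h
  have h3 : s.length = 3 := rfl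
  rw [h3] at h2
  exact absurd h2 (by decide)

theorem noChain_of_surjective {X Y : Scheme.{u}} (f : X ⟶ Y) (hf : IsClosedMap f) (hs : Function.Surjective f)
    (h : NoChain X) : NoChain Y := by
  intro a b c d hab hbc hcd nab nbc ncd
  have lift : ∀ {p q : Y}, p ⤳ q → ∀ x, f x = p → ∃ x', x ⤳ x' ∧ f x' = q := fun {p q} hpq x hx => by
    have hmem : q ∈ f '' closure {x} := by
      refine hpq.mem_closed (hf _ isClosed_closure) ⟨x, subset_closure rfl, hx⟩
    obtain ⟨x', hx', hq⟩ := hmem
    exact ⟨x', specializes_iff_mem_closure.2 hx', hq⟩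
  obtain ⟨xa, hxa⟩ := hs a
  obtain ⟨xb, sb, hxb⟩ := lift hab xa hxa
  obtain ⟨xc, sc, hxc⟩ := lift hbc xb hxb
  obtain ⟨xd, sd, hxd⟩ := lift hcd xc hxc
  exact h xa xb xc xd sb sc sd (fun e => nab (by rw [← hxa, ← hxb, e]))
    (fun e => nbc (by rw [← hxb, ← hxc, e])) (fun e => ncd (by rw [← hxc, ← hxd, e]))

theorem dim_le_of_noChain {X : Scheme.{u}} (h : NoChain X) : topologicalKrullDim X ≤ 2 := by
  refine iSup_le fun s => ?_
  rcases le_or_gt s.length 2 with hs | hs
  · exact_mod_cast hs
  exfalso
  have hlt : ∀ i j : Fin (s.length + 1), i < j → (s j).isIrreducible'.genericPoint ⤳ (s i).isIrreducible'.genericPoint ∧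
      (s j).isIrreducible'.genericPoint ≠ (s i).isIrreducible'.genericPoint := fun i j hij => by
    have hi := (s i).isIrreducible'.isGenericPoint_genericPoint (s i).isClosed'
    have hj := (s j).isIrreducible'.isGenericPoint_genericPoint (s j).isClosed'
    have hlt := s.strictMono hij
    refine ⟨hj.specializes (hlt.le hi.mem), fun he => hlt.ne ?_⟩
    refine IrreducibleCloseds.ext (hi.def.symm.trans ?_)
    rw [← he]
    exact hj.def
  obtain ⟨h1, n1⟩ := hlt ⟨2, by omega⟩ ⟨3, by omega⟩ (by simp [Fin.lt_def])
  obtain ⟨h2, n2⟩ := hlt ⟨1, by omega⟩ ⟨2, by omega⟩ (by simp [Fin.lt_def])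
  obtain ⟨h3, n3⟩ := hlt ⟨0, by omega⟩ ⟨1, by omega⟩ (by simp [Fin.lt_def])
  exact h _ _ _ _ h1 h2 h3 n1 n2 n3

variable {R : Type u} [CommRing R] [IsDedekindDomain R]

variable (R) in
/-- The generic point of the base. -/
abbrev gen : (Spec (CommRingCat.of R) : Scheme.{u}) := (⟨⊥, Ideal.isPrime_bot⟩ : PrimeSpectrum R)

theorem range_genPt : Set.range (Neron.genPt R) = {gen R} := by
  have key : ∀ z, Neron.genPt R z = gen R := fun z => by
    refine PrimeSpectrum.ext ?_
    show Ideal.comap (algebraMap R (FractionRing R)) (PrimeSpectrum.asIdeal z) = ⊥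
    have h : PrimeSpectrum.asIdeal (R := FractionRing R) z = ⊥ :=
      (Ideal.eq_bot_or_top _).resolve_right (PrimeSpectrum.isPrime (R := FractionRing R) z).ne_top
    rw [h]
    exact (RingHom.injective_iff_ker_eq_bot _).1 (IsFractionRing.injective R (FractionRing R))
  ext w
  constructor
  · rintro ⟨z, rfl⟩; exact key z
  · rintro rfl
    exact ⟨(⟨⊥, Ideal.isPrime_bot⟩ : PrimeSpectrum (FractionRing R)), key _⟩

/-- A proper flat integral normal scheme over the base without chains of length three. -/
structure IsGood (Y : Over (Spec (CommRingCat.of R))) : Prop where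
  integral : IsIntegral Y.left
  normal : ∀ q : Y.left, IsIntegrallyClosed (Y.left.presheaf.stalk q)
  proper : IsProper Y.hom
  flat : Flat Y.hom
  noChain : NoChain Y.left

theorem IsGood.noetherian {Y : Over (Spec (CommRingCat.of R))} (h : IsGood Y) : IsNoetherian Y.left := by
  haveI := h.proper
  haveI : IsLocallyNoetherian Y.left := LocallyOfFiniteType.isLocallyNoetherian Y.hom
  haveI : CompactSpace Y.left := QuasiCompact.compactSpace_of_compactSpace Y.hom
  exact {}

theorem IsGood.hom_genericPoint {Y : Over (Spec (CommRingCat.of R))} (h : IsGood Y) :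
    letI := h.integral
    Y.hom (genericPoint Y.left) = gen R := by
  haveI := h.integral
  haveI := h.flat
  have hg := Flat.generalizingMap Y.hom
  have hspec : gen R ⤳ Y.hom (genericPoint Y.left) :=
    (PrimeSpectrum.le_iff_specializes (gen R : PrimeSpectrum R) (Y.hom (genericPoint Y.left) : PrimeSpectrum R)).1 bot_le
  obtain ⟨z, hz, hzg⟩ := hg hspec
  rwa [(hz.antisymm (genericPoint_specializes z)).eq] at hzg

theorem isClosed_of_ne_gen {s : (Spec (CommRingCat.of R) : Scheme.{u})} (h : s ≠ gen R) :
    IsClosed ({s} : Set (Spec (CommRingCat.of R) : Scheme.{u})) :=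
  (PrimeSpectrum.isClosed_singleton_iff_isMaximal (s : PrimeSpectrum R)).2
    (Ring.DimensionLEOne.maximalOfPrime (fun h0 => h (PrimeSpectrum.ext h0)) (PrimeSpectrum.isPrime (R := R) s))

variable {X Y : Over (Spec (CommRingCat.of R))}

/-- A specialisation of a vertical point is vertical, in the same fibre. -/
theorem hom_eq_of_specializes {a b : X.left} (h : a ⤳ b) (ha : X.hom a ≠ gen R) : X.hom b = X.hom a :=
  (h.map X.hom.continuous).mem_closed (isClosed_of_ne_gen ha) rfl

/-- A non-closed vertical point has no proper vertical generization. -/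
theorem IsGood.eq_of_vertical (hX : IsGood X) {w x : X.left} (h : w ⤳ x) (hw : X.hom w ≠ gen R)
    (hx : ¬ IsClosed ({x} : Set X.left)) : w = x := by
  by_contra hne
  haveI := hX.integral
  haveI := hX.noetherian
  obtain ⟨c, hc⟩ : ∃ c, c ∈ closure ({x} : Set X.left) ∧ c ≠ x := by
    by_contra hh
    push Not at hh
    exact hx (closure_eq_iff_isClosed.1 (Set.Subset.antisymm (fun c hc => hh c hc) subset_closure))
  exact hX.noChain (genericPoint X.left) w x c (genericPoint_specializes w) h (specializes_iff_mem_closure.2 hc.1)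
    (fun e => hw (e ▸ hX.hom_genericPoint)) hne hc.2.symm

variable (f : X ⟶ Y)

theorem hom_apply (x : X.left) : Y.hom (f.left x) = X.hom x := by
  rw [← Scheme.Hom.comp_apply, Over.w]

/-- A morphism inducing an isomorphism of generic fibres. -/
theorem exists_unique_over_gen (h : IsIso ((Neron.genericFibre R).map f)) {y : Y.left} (hy : Y.hom y = gen R) :
    ∃ x, f.left x = y ∧ IsIso (f.left.stalkMap x) ∧ ∀ x', f.left x' = y → x' = x := by
  haveI : IsPreimmersion (Neron.genPt R) := FlatClosure19.isPreimmersion_gen R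
  haveI : Flat (Neron.genPt R) := FlatClosure19.flat_gen R
  let m := ((Neron.genericFibre R).map f).left
  haveI : IsIso m := inferInstanceAs (IsIso ((Over.forget _).map ((Neron.genericFibre R).map f)))
  let pX : pullback X.hom (Neron.genPt R) ⟶ X.left := pullback.fst _ _
  let pY : pullback Y.hom (Neron.genPt R) ⟶ Y.left := pullback.fst _ _
  have hm : m ≫ pY = pX ≫ f.left := pullback.lift_fst _ _ _
  haveI : IsPreimmersion pX := MorphismProperty.pullback_fst _ _ ‹IsPreimmersion (Neron.genPt R)›
  haveI : IsPreimmersion pY := MorphismProperty.pullback_fst _ _ ‹IsPreimmersion (Neron.genPt R)›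
  haveI : Flat pX := MorphismProperty.pullback_fst _ _ ‹Flat (Neron.genPt R)›
  haveI : Flat pY := MorphismProperty.pullback_fst _ _ ‹Flat (Neron.genPt R)›
  have hrX : ∀ x, X.hom x = gen R → x ∈ Set.range pX := fun x hx => by
    rw [Scheme.Pullback.range_fst, range_genPt]; exact hx
  have hrY : y ∈ Set.range pY := by rw [Scheme.Pullback.range_fst, range_genPt]; exact hy
  obtain ⟨w, rfl⟩ := hrY
  obtain ⟨v, rfl⟩ := (ConcreteCategory.bijective_of_isIso m.base).2 w
  have hpt : ∀ u, f.left (pX u) = pY (m u) := fun u => (congrArg (fun g => g u) (congrArg (fun g => g.base) hm)).symm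
  refine ⟨pX v, hpt v, ?_, fun x' hx' => ?_⟩
  · haveI := LocImm12.isIso_stalkMap pX v
    haveI := LocImm12.isIso_stalkMap pY (m v)
    haveI : IsOpenImmersion m := IsOpenImmersion.of_isIso _
    have h1 : IsIso ((m ≫ pY).stalkMap v) := by
      rw [Scheme.Hom.stalkMap_comp]; infer_instance
    have h2 : IsIso ((pX ≫ f.left).stalkMap v) := by
      rw [Scheme.Hom.stalkMap_congr_hom _ _ hm v] at h1
      exact IsIso.of_isIso_comp_left
        (Y.left.presheaf.stalkCongr (.of_eq (show (m ≫ pY) v = (pX ≫ f.left) v by rw [hm]; rfl))).hom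
        ((pX ≫ f.left).stalkMap v)
    rw [Scheme.Hom.stalkMap_comp] at h2
    exact IsIso.of_isIso_comp_right _ (pX.stalkMap v)
  · obtain ⟨v', rfl⟩ := hrX x' (by rw [← hom_apply f, hx']; exact hy)
    have h1 : pY (m v') = pY (m v) := by
      exact (hpt v').symm.trans hx'
    exact congrArg pX ((ConcreteCategory.bijective_of_isIso m.base).1 (pY.isEmbedding.injective h1))

theorem isProper_left (hX : IsProper X.hom) (hY : IsProper Y.hom) : IsProper f.left := by
  haveI : IsProper (f.left ≫ Y.hom) := by rw [Over.w]; exact hX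
  haveI := hY
  exact IsProper.of_comp f.left Y.hom

theorem surjective_of_iso_generic (hX : IsProper X.hom) (hY : IsProper Y.hom) [Flat Y.hom]
    (h : IsIso ((Neron.genericFibre R).map f)) : Function.Surjective f.left := by
  intro y
  haveI := isProper_left f hX hY
  have hspec : gen R ⤳ Y.hom y :=
    (PrimeSpectrum.le_iff_specializes (gen R : PrimeSpectrum R) (Y.hom y : PrimeSpectrum R)).1 bot_le
  obtain ⟨z, hz, hzg⟩ := Flat.generalizingMap Y.hom hspec
  obtain ⟨x, hx, -⟩ := exists_unique_over_gen f h hzg
  exact hz.mem_closed f.left.isClosedMap.isClosed_range ⟨x, hx⟩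

/-- A regular scheme dominated by an integral one is integral. -/
theorem isGood_of_regular (hX : IsGood X) (hY : IsProper Y.hom) [Flat Y.hom]
    (hn : ∀ q : Y.left, IsDomain (Y.left.presheaf.stalk q) ∧ IsIntegrallyClosed (Y.left.presheaf.stalk q))
    (h : IsIso ((Neron.genericFibre R).map f)) : IsGood Y := by
  haveI := hX.integral
  haveI := isProper_left f hX.proper hY
  have hs := surjective_of_iso_generic f hX.proper hY h
  haveI : IrreducibleSpace Y.left := by
    refine (irreducibleSpace_def _).mpr ?_
    rw [Set.top_eq_univ, ← hs.range_eq, ← Set.image_univ]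
    exact (IrreducibleSpace.isIrreducible_univ _).image _ f.left.continuous.continuousOn
  haveI : ∀ q : Y.left, IsDomain (Y.left.presheaf.stalk q) := fun q => (hn q).1
  haveI : IsReduced Y.left := isReduced_of_isReduced_stalk Y.left
  exact ⟨isIntegral_of_irreducibleSpace_of_isReduced _, fun q => (hn q).2, hY, inferInstance,
    noChain_of_surjective f.left f.left.isClosedMap hs hX.noChain⟩

variable (hX : IsGood X) (hY : IsGood Y) (h : IsIso ((Neron.genericFibre R).map f))
include hX hY h

theorem map_genericPoint :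
    letI := hX.integral
    letI := hY.integral
    f.left (genericPoint X.left) = genericPoint Y.left ∧ IsIso (f.left.stalkMap (genericPoint X.left)) := by
  haveI := hX.integral
  haveI := hY.integral
  obtain ⟨x, hx, -, -⟩ := exists_unique_over_gen f h hY.hom_genericPoint
  have h1 : f.left (genericPoint X.left) = genericPoint Y.left := by
    refine (Specializes.antisymm ?_ (genericPoint_specializes _)).eq
    exact hx ▸ (genericPoint_specializes x).map f.left.continuous
  obtain ⟨x', -, hiso, hu⟩ := exists_unique_over_gen f h hY.hom_genericPoint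
  obtain rfl := hu _ h1
  exact ⟨h1, hiso⟩

theorem bijective_app (U : Y.left.Opens) : Function.Bijective (f.left.app U).hom := by
  haveI := hX.integral
  haveI := hY.integral
  haveI := isProper_left f hX.proper hY.proper
  obtain ⟨hgen, hbir⟩ := map_genericPoint f hX hY h
  have hdom : f.left.base (genericPoint X.left) ⤳ genericPoint Y.left := specializes_of_eq hgen
  refine Fibration13.bijective_app_of_birational f.left (fun q => ⟨inferInstance, hY.normal q⟩) hdom ?_ U
  rw [CohIII.stalkToFunctionField, RingHom.coe_comp]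
  haveI := hbir
  haveI : IsIso (Y.left.presheaf.stalkSpecializes hdom) :=
    (Y.left.presheaf.stalkCongr (.of_eq hgen.symm)).isIso_hom
  exact (ConcreteCategory.bijective_of_isIso (f.left.stalkMap (genericPoint X.left))).comp
    (ConcreteCategory.bijective_of_isIso (Y.left.presheaf.stalkSpecializes hdom))

omit hX hY h in
/-- The non-closed points with closed image. -/
def contracted (f : X ⟶ Y) : Set X.left := {x | ¬ IsClosed ({x} : Set X.left) ∧ IsClosed ({f.left x} : Set Y.left)}

theorem hom_ne_gen_of_contracted {x : X.left} (hx : x ∈ contracted f) : X.hom x ≠ gen R := by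
  intro hg
  obtain ⟨x₀, hx₀, -, hu⟩ := exists_unique_over_gen f h (y := f.left x) (by rw [hom_apply]; exact hg)
  refine hx.1 ?_
  have : f.left ⁻¹' {f.left x} = {x} := Set.Subset.antisymm
    (fun z hz => (hu z hz).trans (hu x rfl).symm) (fun z hz => by rw [Set.mem_singleton_iff.1 hz]; rfl)
  rw [← this]
  exact hx.2.preimage f.left.continuous

/-- Without contracted points the morphism is an isomorphism. -/
theorem isIso_of_contracted_eq_empty (hc : contracted f = ∅) : IsIso f := by
  haveI := hX.integral
  haveI := hY.integral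
  haveI := hX.noetherian
  haveI := isProper_left f hX.proper hY.proper
  have hclosed : ∀ x, IsClosed ({f.left x} : Set Y.left) → IsClosed ({x} : Set X.left) := fun x hx => by
    by_contra hh
    exact (hc.le (show x ∈ contracted f from ⟨hh, hx⟩) : x ∈ (∅ : Set X.left))
  haveI : LocallyQuasiFinite f.left := by
    refine LocallyQuasiFinite.of_finite_preimage_singleton _ fun y => ?_
    by_cases hy : Y.hom y = gen R
    · obtain ⟨x₀, -, -, hu⟩ := exists_unique_over_gen f h hy
      exact (Set.finite_singleton x₀).subset fun z hz => hu z hz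
    let Z : Set X.left := X.hom ⁻¹' {Y.hom y}
    have hZ : IsClosed Z := (isClosed_of_ne_gen hy).preimage X.hom.continuous
    by_cases hyc : IsClosed ({y} : Set Y.left)
    · have hF : IsClosed (f.left ⁻¹' {y}) := hyc.preimage f.left.continuous
      haveI : NoetherianSpace ↥(f.left ⁻¹' {y}) := inferInstance
      obtain ⟨S, hS, hS1, hS2, hSeq⟩ := NoetherianSpace.exists_finite_set_isClosed_irreducible hF
      rw [hSeq]
      refine hS.sUnion fun T hT => ?_
      obtain ⟨g, hg⟩ := QuasiSober.sober (hS2 T hT) (hS1 T hT)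
      have hgy : g ∈ f.left ⁻¹' {y} := hSeq ▸ Set.mem_sUnion_of_mem hg.mem hT
      have hgc := hclosed g (by rw [show f.left g = y from hgy]; exact hyc)
      rw [← hg.def, hgc.closure_eq]
      exact Set.finite_singleton g
    · obtain ⟨S, hS, hS1, hS2, hSeq⟩ := NoetherianSpace.exists_finite_set_isClosed_irreducible hZ
      refine (hS.biUnion (t := fun T => {g | IsGenericPoint g T}) fun T _ => ?_).subset fun z hz => ?_
      · exact Set.Subsingleton.finite fun a ha b hb => IsGenericPoint.eq ha hb
      · have hzZ : z ∈ Z := by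
          show X.hom z = Y.hom y
          rw [← hom_apply f, show f.left z = y from hz]
        obtain ⟨T, hT, hzT⟩ := Set.mem_sUnion.1 (hSeq ▸ hzZ : z ∈ ⋃₀ S)
        obtain ⟨g, hg⟩ := QuasiSober.sober (hS2 T hT) (hS1 T hT)
        have hgZ : g ∈ Z := hSeq ▸ Set.mem_sUnion_of_mem hg.mem hT
        have hznc : ¬ IsClosed ({z} : Set X.left) := fun hh => hyc (by
          have := f.left.isClosedMap _ hh
          rwa [Set.image_singleton, show f.left z = y from hz] at this)
        have := hX.eq_of_vertical (hg.specializes hzT) (by rw [show X.hom g = Y.hom y from hgZ]; exact hy) hznc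
        exact Set.mem_biUnion hT (show IsGenericPoint z T from this ▸ hg)
  haveI : IsFinite f.left := IsFinite.of_isProper_of_locallyQuasiFinite f.left
  haveI : IsIso f.left := by
    have hcov : (⨆ U : Y.left.affineOpens, (U : Y.left.Opens)) = ⊤ := iSup_affineOpens_eq_top _
    refine (IsZariskiLocalAtTarget.iff_of_iSup_eq_top (P := MorphismProperty.isomorphisms Scheme) _ hcov).2 fun U => ?_
    haveI : IsAffine (U : Y.left.Opens).toScheme := U.2
    haveI : IsAffine (f.left ⁻¹ᵁ (U : Y.left.Opens)).toScheme := U.2.preimage f.left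
    refine Stein6.isIso_of_bijective_appTop _ ?_
    rw [morphismRestrict_appTop]
    rw [CommRingCat.hom_comp, RingHom.coe_comp]
    exact (ConcreteCategory.bijective_of_isIso (X.left.presheaf.map (eqToHom _).op)).comp (bijective_app f hX hY h _)
  haveI : IsIso ((Over.forget _).map f) := ‹IsIso f.left›
  exact isIso_of_reflects_iso f (Over.forget _)

omit hX hY h in
/-- An isolated point of a fibre over a one-dimensional domain has a valuation ring. -/
theorem valuationRing_of_isolated {Y : Scheme.{u}} [IsIntegral Y] [IsLocallyNoetherian Y] {D : Type u} [CommRing D]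
    [IsDomain D] [Ring.DimensionLEOne D] (π : Y ⟶ Spec (CommRingCat.of D))
    (hη : (π (genericPoint Y) : PrimeSpectrum D).asIdeal = ⊥) (y : Y) [IsIntegrallyClosed (Y.presheaf.stalk y)]
    (hy : (π y : PrimeSpectrum D).asIdeal ≠ ⊥) (hiso : ∀ w, w ⤳ y → π w = π y → w = y) :
    ValuationRing (Y.presheaf.stalk y) := by
  obtain ⟨σ, hσ⟩ := Spec.map_surjective (Y.fromSpecStalk y ≫ π)
  let O := Y.presheaf.stalk y
  have hcomap : ∀ P : PrimeSpectrum O, (π (Y.fromSpecStalk y P) : PrimeSpectrum D).asIdeal = P.asIdeal.comap σ.hom :=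
    fun P => by
    rw [← Scheme.Hom.comp_apply, ← hσ]
    rfl
  have hinj : ∀ t, σ.hom t = 0 → t = 0 := fun t ht => by
    let z := Y.fromSpecStalk y (⟨⊥, Ideal.isPrime_bot⟩ : PrimeSpectrum O)
    obtain ⟨q, hq⟩ : genericPoint Y ∈ Set.range (Y.fromSpecStalk y) := by
      rw [Scheme.range_fromSpecStalk]; exact genericPoint_specializes y
    have hz : z = genericPoint Y := by
      refine (Specializes.antisymm ?_ (genericPoint_specializes z)).eq
      rw [← hq]
      exact ((PrimeSpectrum.le_iff_specializes (⟨⊥, Ideal.isPrime_bot⟩ : PrimeSpectrum O) q).1 bot_le).map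
        (Y.fromSpecStalk y).continuous
    have h1 : t ∈ (⊥ : Ideal O).comap σ.hom := ht
    rw [← hcomap ⟨⊥, Ideal.isPrime_bot⟩, show Y.fromSpecStalk y _ = genericPoint Y from hz, hη] at h1
    exact h1
  obtain ⟨t, htP, ht0⟩ := Submodule.exists_mem_ne_zero_of_ne_bot hy
  have hclp : ∀ a, a ∈ (π y : PrimeSpectrum D).asIdeal ↔ σ.hom a ∈ IsLocalRing.maximalIdeal O := fun a => by
    conv_lhs => rw [← Scheme.fromSpecStalk_closedPoint (X := Y) (x := y), hcomap]
    rfl
  have hprime : ∀ P : Ideal O, P.IsPrime → σ.hom t ∈ P → P = IsLocalRing.maximalIdeal O := fun P hP htP' => by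
    haveI : (P.comap σ.hom).IsPrime := Ideal.IsPrime.comap _
    have h1 : P.comap σ.hom ≠ ⊥ := fun hh => ht0 (by
      have : t ∈ P.comap σ.hom := htP'
      rwa [hh] at this)
    have h2 : P.comap σ.hom = (π y : PrimeSpectrum D).asIdeal := by
      refine (Ring.DimensionLEOne.maximalOfPrime h1 ‹_›).eq_of_le (PrimeSpectrum.isPrime _).ne_top fun a ha => ?_
      exact (hclp a).2 (IsLocalRing.le_maximalIdeal hP.ne_top ha)
    have h3 : Y.fromSpecStalk y ⟨P, hP⟩ = y := by
      refine hiso _ ?_ (PrimeSpectrum.ext ((hcomap ⟨P, hP⟩).trans h2))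
      have : Y.fromSpecStalk y ⟨P, hP⟩ ∈ Set.range (Y.fromSpecStalk y) := ⟨_, rfl⟩
      rw [Scheme.range_fromSpecStalk] at this
      exact this
    exact congrArg PrimeSpectrum.asIdeal
      ((Y.fromSpecStalk y).isEmbedding.injective (h3.trans Scheme.fromSpecStalk_closedPoint.symm))
  have htm : σ.hom t ∈ IsLocalRing.maximalIdeal O := (hclp t).1 htP
  have hmin : IsLocalRing.maximalIdeal O ∈ (Ideal.span {σ.hom t}).minimalPrimes :=
    ⟨⟨inferInstance, (Ideal.span_singleton_le_iff_mem _).2 htm⟩, fun P hP _ =>
      (hprime P hP.1 ((Ideal.span_singleton_le_iff_mem _).1 hP.2)).ge⟩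
  have hht := Ideal.height_le_one_of_isPrincipal_of_mem_minimalPrimes _ _ hmin
  have hT : IsIntegrallyClosed O ∧ (∀ P : Ideal O, P ≠ ⊥ → P.IsPrime → P = IsLocalRing.maximalIdeal O) → ValuationRing O :=
    ((tfae_of_isNoetherianRing_of_isLocalRing_of_isDomain O).out 3 1).1
  refine hT ⟨inferInstance, fun P hP0 hP => ?_⟩
  by_contra hne
  have hlt : P < IsLocalRing.maximalIdeal O := lt_of_le_of_ne (IsLocalRing.le_maximalIdeal hP.ne_top) hne
  have h1 : (0 : ℕ∞) < P.height := by
    rw [pos_iff_ne_zero]
    exact fun hh => hP0 (Ideal.height_eq_zero_iff_eq_bot.1 hh)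
  have h2 := Ideal.height_strict_mono_of_isPrime hlt
  exact absurd (lt_of_le_of_lt (Order.one_le_iff_pos.2 h1) (lt_of_lt_of_le h2 hht)) (lt_irrefl _)

/-- Next to a contracted point there is a second point in the same fibre. -/
theorem exists_generization {x : X.left} (hx : x ∈ contracted f) {D : Type u} [CommRing D] [IsDomain D]
    [Ring.DimensionLEOne D] (π : Y.left ⟶ Spec (CommRingCat.of D))
    (hη : ∀ η : Y.left, (∀ z, η ⤳ z) → (π η : PrimeSpectrum D).asIdeal = ⊥)
    (hy : (π (f.left x) : PrimeSpectrum D).asIdeal ≠ ⊥) :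
    ∃ w, w ⤳ f.left x ∧ w ≠ f.left x ∧ π w = π (f.left x) := by
  haveI := hX.integral
  haveI := hY.integral
  haveI := hY.noetherian
  haveI := hY.normal (f.left x)
  by_contra hh
  push Not at hh
  have hval := valuationRing_of_isolated π (hη _ genericPoint_specializes) (f.left x) hy fun w hw hπ =>
    by_contra fun hne => hh w hw hne hπ
  obtain ⟨c, hc, hcx⟩ : ∃ c, c ∈ closure ({x} : Set X.left) ∧ c ≠ x := by
    by_contra hh'
    push Not at hh'
    exact hx.1 (closure_eq_iff_isClosed.1 (Set.Subset.antisymm (fun c hc => hh' c hc) subset_closure))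
  have hsp : x ⤳ c := specializes_iff_mem_closure.2 hc
  have hfc : f.left c = f.left x := (hsp.map f.left.continuous).mem_closed hx.2 rfl
  obtain ⟨hgen, hbir⟩ := map_genericPoint f hX hY h
  haveI := hbir
  haveI : ValuationRing (Y.left.presheaf.stalk (f.left c)) := by rw [hfc]; exact hval
  exact hcx (DVRTensor.eq_of_specializes_of_valuationRing f.left hgen hsp hfc.symm).symm

end Groth.Agent.RelMin
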