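import Groth.Prelude.Def_ArSurf
import Groth.Agent.Lib.RelMin32.Basic
import Mathlib

/-!
# Arithmetic surfaces and birationality from an open
-/

set_option autoImplicit false
set_option linter.style.haveILetI false
set_option linter.unusedSectionVars false
set_option backward.isDefEq.respectTransparency false

universe u

open CategoryTheory CategoryTheory.Limits AlgebraicGeometry TopologicalSpace

namespace Groth.Agent.RelMin

variable {R : Type u} [CommRing R] [IsDedekindDomain R] {X : Over (Spec (CommRingCat.of R))}

theorem IsArithSurface.isProper (h : ArSurf.IsArithSurface R X) : IsProper X.hom := by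
  obtain ⟨n, i, hi, e⟩ := h.2.2.2.2
  haveI := hi
  rw [← e]
  infer_instance

theorem IsArithSurface.isNoetherian (h : ArSurf.IsArithSurface R X) : AlgebraicGeometry.IsNoetherian X.left := by
  haveI := IsArithSurface.isProper h
  haveI : IsLocallyNoetherian X.left := LocallyOfFiniteType.isLocallyNoetherian X.hom
  haveI : CompactSpace X.left := (inferInstance : QuasiCompact X.hom).compactSpace_of_compactSpace
  exact {}

theorem IsArithSurface.noChain (h : ArSurf.IsArithSurface R X) : NoChain X.left := noChain_of_dim h.2.2.1.le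

theorem isProper_left' {Y : Over (Spec (CommRingCat.of R))} (hX : ArSurf.IsArithSurface R X)
    (hY : ArSurf.IsArithSurface R Y) (f : X ⟶ Y) : IsProper f.left := by
  haveI := IsArithSurface.isProper hX
  haveI := IsArithSurface.isProper hY
  haveI : IsProper (f.left ≫ Y.hom) := by rw [Over.w]; infer_instance
  exact IsProper.of_comp f.left Y.hom

/-- An isomorphism over a nonempty open subset is birational. -/
theorem birational_of_restrict {X Y : Scheme.{u}} [IsIntegral X] [IsIntegral Y] (f : X ⟶ Y) {U : Y.Opens}
    (hU : (U : Set Y).Nonempty) [IsIso (f ∣_ U)] :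
    f (genericPoint X) = genericPoint Y ∧ IsIso (f.stalkMap (genericPoint X)) := by
  have hgY : genericPoint Y ∈ U := by
    obtain ⟨w, hw⟩ := hU
    exact (genericPoint_specializes w).mem_open U.2 hw
  obtain ⟨x₀, hx₀⟩ := (ConcreteCategory.bijective_of_isIso (f ∣_ U).base).2 ⟨genericPoint Y, hgY⟩
  have hbase : ∀ v : (f ⁻¹ᵁ U : X.Opens), f ((f ⁻¹ᵁ U).ι v) = ((f ∣_ U) v).1 :=
    fun v => (congrArg (fun g => g v) (congrArg (fun t => t.base) (morphismRestrict_ι f U))).symm
  have hgen : f (genericPoint X) = genericPoint Y := by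
    have h1 := (genericPoint_specializes ((f ⁻¹ᵁ U).ι x₀)).map f.continuous
    rw [hbase, show (f ∣_ U) x₀ = ⟨genericPoint Y, hgY⟩ from hx₀] at h1
    exact (h1.antisymm (genericPoint_specializes _)).eq
  refine ⟨hgen, ?_⟩
  have hmem : genericPoint X ∈ f ⁻¹ᵁ U := by
    show f (genericPoint X) ∈ U
    rw [hgen]; exact hgY
  haveI : IsOpenImmersion (f ∣_ U) := IsOpenImmersion.of_isIso _
  have h1 : IsIso ((f ∣_ U).stalkMap ⟨genericPoint X, hmem⟩) := inferInstance
  exact ((MorphismProperty.isomorphisms CommRingCat.{u}).arrow_mk_iso_iff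
    (morphismRestrictStalkMap f U ⟨genericPoint X, hmem⟩)).1 h1

end Groth.Agent.RelMin
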