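import Groth.Agent.Lib.RelMin32.Basic
import Groth.Agent.Lib.RelMin32.Finite
import Groth.Agent.Lib.ArInter.Exc
import Groth.Agent.Lib.ArInter.Fibre
import Groth.Agent.S10829
import Mathlib

/-!
# An exceptional curve is not the support of a principal divisor
-/

set_option autoImplicit false
set_option linter.style.haveILetI false
set_option linter.unusedSectionVars false
set_option backward.isDefEq.respectTransparency false
set_option maxHeartbeats 1000000

universe u

open CategoryTheory CategoryTheory.Limits AlgebraicGeometry TopologicalSpace Opposite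

namespace Groth.Agent.RelMin

theorem exists_principal_ideal {V : Scheme.{u}} [IsIntegral V] {s : Γ(V, ⊤)} (hs : s ≠ 0) :
    ∃ J : V.IdealSheafData, BlowUp.IsEffCartierIdeal J ∧ Nonempty (Coh.structureModule V ≅ ClSub.idealMod J) ∧
      ∀ x, x ∈ J.support ↔ x ∉ V.basicOpen s := by
  haveI := M1.isQCoh_structureModule V
  have hres : ∀ U : V.Opens, Nonempty U → (V.presheaf.map (homOfLE (le_top : U ≤ ⊤)).op) s ≠ 0 := fun U hU h0 => by
    haveI := hU
    exact hs (map_injective_of_isIntegral V (homOfLE (le_top : U ≤ ⊤)) (h0.trans (map_zero _).symm))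
  haveI : Mono (M1.secHom (M := Coh.structureModule V) s) := by
    refine (M1.mono_iff_app _).mpr fun U => ?_
    rcases isEmpty_or_nonempty U with hU | hU
    · intro a b _
      exact TopCat.Presheaf.section_ext V.sheaf U a b fun z hz => (hU.false ⟨z, hz⟩).elim
    · intro a b hab
      rw [Twist.secHom_app, Twist.secHom_app] at hab
      exact mul_right_cancel₀ (b := (V.presheaf.map (homOfLE (le_top : U ≤ ⊤)).op) s) (M₀ := Γ(V, U)) (hres U hU) hab
  let J := SecDiv.ofMono (M1.secHom (M := Coh.structureModule V) s)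
  have hideal : ∀ U : V.affineOpens, J.ideal U =
      Ideal.span {(V.presheaf.map (homOfLE (le_top : U.1 ≤ ⊤)).op) s} := fun U => by
    ext t
    rw [Ideal.mem_span_singleton']
    constructor
    · rintro ⟨a, rfl⟩
      exact ⟨a, (Twist.secHom_app (M := Coh.structureModule V) s U.1 a).symm⟩
    · rintro ⟨a, rfl⟩
      exact ⟨a, Twist.secHom_app (M := Coh.structureModule V) s U.1 a⟩
  refine ⟨J, fun x => ?_, SecDiv.nonempty_iso_idealMod _, fun x => ?_⟩
  · obtain ⟨U, hU, hx⟩ := DivDesc12.exists_affine x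
    haveI : Nonempty U := ⟨⟨x, hx⟩⟩
    exact ⟨⟨U, hU⟩, hx, _, mem_nonZeroDivisors_of_ne_zero (hres U inferInstance), hideal ⟨U, hU⟩⟩
  · obtain ⟨U, hU, hx⟩ := DivDesc12.exists_affine x
    rw [Scheme.IdealSheafData.mem_support_iff_of_mem (U := ⟨U, hU⟩) hx, hideal, Scheme.zeroLocus_span,
      Scheme.mem_zeroLocus_iff]
    simp only [Set.mem_singleton_iff, forall_eq]
    rw [Scheme.basicOpen_res]
    exact not_congr ⟨fun h => h.2, fun h => ⟨hx, h⟩⟩

theorem false_of_principal {V E : Scheme.{u}} [IsIntegral V] [AlgebraicGeometry.IsNoetherian V] (ι : E ⟶ V)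
    [IsClosedImmersion ι] {k : Type u} [Field k] (e : CohB1.ProjSpace 1 k ≅ E)
    (hI : BlowUp.IsEffCartierIdeal ι.ker)
    (hN : Nonempty ((Scheme.Modules.pullback (e.hom ≫ ι)).obj (ClSub.idealMod ι.ker) ≅ Twist.twistProjSpace 1 k 1))
    {s : Γ(V, ⊤)} (hs : s ≠ 0) (hsupp : ∀ x, x ∈ Set.range ι ↔ x ∉ V.basicOpen s) : False := by
  classical
  haveI := RegExt.isIntegral_projSpace 1 k
  haveI : Nonempty E := ⟨e.hom (genericPoint _)⟩
  haveI : IsIntegral E := isIntegral_of_isOpenImmersion e.inv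
  obtain ⟨J, hJ, ⟨eJ⟩, hJs⟩ := exists_principal_ideal hs
  have hIs : ∀ x, x ∈ (ι.ker.support : Set V) ↔ x ∈ Set.range ι := fun x => by
    rw [Scheme.Hom.support_ker]
    exact Iff.of_eq (congrArg (x ∈ ·) ι.isClosedEmbedding.isClosed_range.closure_eq)
  have hJI : ∀ x, x ∈ J.support ↔ x ∈ Set.range ι := fun x => (hJs x).trans (hsupp x).symm
  let g := ι (genericPoint E)
  have hgcl : ∀ x, x ∈ Set.range ι → g ⤳ x := by
    rintro _ ⟨a, rfl⟩
    exact (genericPoint_specializes a).map ι.continuous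
  obtain ⟨a, Q, hZ, hJQ, hno⟩ := SecDiv.exists_peel (fun _ : PUnit.{u + 1} => ι.ker) (fun _ => hI) J (fun _ K hK _ he => by
    obtain ⟨y, hyK, -, hmax⟩ := SecDiv.exists_maximal_of_colon_eq hI he ((hIs g).2 ⟨_, rfl⟩)
    obtain ⟨w, hw, hne⟩ := SecDiv.exists_proper_generisation hJ (Scheme.IdealSheafData.support_antitone hK hyK)
    exact hne (hmax w hw))
  rw [Finsupp.prod_fintype _ _ fun p => pow_zero _, Fintype.prod_unique] at hZ
  have hQ : BlowUp.IsEffCartierIdeal Q := EffCartier.isEffCartierIdeal_of_mul_right (hZ ▸ hJ)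
  have hQg : g ∉ (Q.support : Set V) := fun h => hno PUnit.unit (by
    show Q ≤ ι.ker
    rw [RedSepLib.ker_eq_vanishingIdeal]
    refine Scheme.IdealSheafData.le_support_iff_le_vanishingIdeal.mp ?_
    change closure (Set.range ι) ⊆ (Q.support : Set V)
    refine Q.support.isClosed.closure_subset_iff.mpr fun x hx => ?_
    exact (hgcl x hx).mem_closed Q.support.isClosed h)
  have hQtop : Q = ⊤ := by
    rw [← Scheme.IdealSheafData.support_eq_bot_iff]
    ext z
    refine ⟨fun hz => ?_, fun h => h.elim⟩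
    obtain ⟨y, hy, -, hymax⟩ := SecDiv.exists_maximal_generisation Q hz
    have hy1 := SecDiv.ringKrullDim_generic hQ hy hymax
    have hyE : y ∈ Set.range ι := (hJI y).1 (Scheme.IdealSheafData.support_antitone hJQ hy)
    have hg1 : ringKrullDim (V.presheaf.stalk g) = 1 :=
      SecDiv.ringKrullDim_generic hI ((hIs g).2 ⟨_, rfl⟩) fun w hw hwg => (hwg.antisymm (hgcl w ((hIs w).1 hw))).eq
    have h2 := SecDiv.two_le_of_specializes (hgcl y hyE) (fun he => hQg (by rw [he]; exact hy)) hg1
    rw [hy1] at h2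
    exact absurd h2 (by decide)
  rw [hQtop, SecDiv.mul_top'] at hZ
  have ha : a PUnit.unit ≠ 0 := fun h0 => by
    have hgJ : g ∈ J.support := (hJI g).2 ⟨_, rfl⟩
    rw [hZ, show a default = 0 from h0, pow_zero, Scheme.IdealSheafData.one_eq_top,
      Scheme.IdealSheafData.support_top] at hgJ
    exact hgJ.elim
  -- degrees on the projective line
  letI : (CohB1.ProjSpace 1 k).Over (Spec (CommRingCat.of k)) := ⟨CohB1.ProjSpace.toSpec 1 k⟩
  haveI : IsProper ((CohB1.ProjSpace 1 k) ↘ Spec (CommRingCat.of k)) := ProjSpace.isProper_toSpec 1 k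
  have hdim : topologicalKrullDim (CohB1.ProjSpace 1 k) = 1 := by rw [Groth.Agent.S10829.result k 1]; rfl
  have hc := CurveAmple18.curveLike k (CohB1.ProjSpace 1 k) hdim.le
  let p := e.hom ≫ ι
  let d : V.IdealSheafData → ℤ := fun D =>
    Curv2.deg k (CohB1.ProjSpace 1 k) ((Scheme.Modules.pullback p).obj (ClSub.idealMod D)) 1
  have hmul : ∀ {D D' : V.IdealSheafData}, BlowUp.IsEffCartierIdeal D → BlowUp.IsEffCartierIdeal D' →
      d (D * D') = d D + d D' := fun {D D'} hD hD' => by
    obtain ⟨i⟩ := CurveCoh17.nonempty_idealMod_mul hD hD'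
    show Curv2.deg k _ _ 1 = _
    rw [← CurveCoh17.deg_iso ((M2.pullTensorIso p _ _).symm ≪≫ (Scheme.Modules.pullback p).mapIso i)]
    exact hc.deg_tensor_invertible (PicLoc.isInvertible_pullback p (M2.isInvertible_idealMod _ hD))
      (PicLoc.isInvertible_pullback p (M2.isInvertible_idealMod _ hD'))
  have htop : d ⊤ = 0 := by
    have h := hmul (EffCartier.isEffCartierIdeal_top (X := V)) EffCartier.isEffCartierIdeal_top
    rw [SecDiv.mul_top'] at h
    linarith
  have hpow : ∀ n : ℕ, d (ι.ker ^ n) = n * d ι.ker := by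
    intro n
    induction n with
    | zero => rw [pow_zero, Scheme.IdealSheafData.one_eq_top, htop, Nat.cast_zero, zero_mul]
    | succ n ih =>
      rw [pow_succ, hmul (BlowUpExist.isEffCartierIdeal_pow hI n) hI, ih]
      push_cast
      ring
  have h1 : d ι.ker = 1 := by
    obtain ⟨eN⟩ := hN
    show Curv2.deg k _ _ 1 = _
    rw [CurveCoh17.deg_iso eN]
    exact CurveCoh17.deg_twistP1 k
  have h0 : d J = 0 := by
    show Curv2.deg k _ _ 1 = _
    rw [CurveCoh17.deg_iso ((Scheme.Modules.pullback p).mapIso eJ.symm ≪≫ PicLoc.pullbackStructureIso p),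
      CurveCoh17.deg_structureModule]
  rw [hZ, hpow, h1, mul_one] at h0
  exact ha (Nat.cast_eq_zero.mp h0)

/-- An exceptional curve is not cut out by one function on an open neighbourhood. -/
theorem false_of_locally_principal {X E : Scheme.{u}} [IsIntegral X] [AlgebraicGeometry.IsNoetherian X] (ι : E ⟶ X)
    [IsClosedImmersion ι] (h : Models.IsExcCurve ι) (V : X.Opens) (s : Γ(X, V)) (hs : s ≠ 0)
    (hV : Set.range ι ⊆ (V : Set X)) (hsupp : ∀ x ∈ V, x ∈ Set.range ι ↔ x ∉ X.basicOpen s) : False := by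
  obtain ⟨hI, k, hk, e, ⟨eN⟩⟩ := h
  haveI := RegExt.isIntegral_projSpace 1 k
  haveI : Nonempty E := ⟨e.hom (genericPoint _)⟩
  haveI : IsIntegral E := isIntegral_of_isOpenImmersion e.inv
  haveI : Nonempty V := ⟨⟨ι (genericPoint E), hV ⟨_, rfl⟩⟩⟩
  haveI : IsIntegral V.toScheme := isIntegral_of_isOpenImmersion V.ι
  haveI : CompactSpace V.toScheme := isCompact_iff_compactSpace.1 (NoetherianSpace.isCompact (V : Set X))
  haveI : IsLocallyNoetherian V.toScheme := isLocallyNoetherian_of_isOpenImmersion V.ι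
  haveI : AlgebraicGeometry.IsNoetherian V.toScheme := {}
  haveI : IsIso (pullback.snd V.ι ι) := by
    haveI : Surjective (pullback.snd V.ι ι) := ⟨fun a => by
      have : a ∈ Set.range (pullback.snd V.ι ι) := by
        rw [Scheme.Pullback.range_snd]
        show ι a ∈ Set.range V.ι
        rw [Scheme.Opens.range_ι]
        exact hV ⟨a, rfl⟩
      exact this⟩
    exact (isIso_iff_isOpenImmersion_and_surjective _).2 ⟨inferInstance, inferInstance⟩
  let ι' := inv (pullback.snd V.ι ι) ≫ pullback.fst V.ι ι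
  have hι : ι' ≫ V.ι = ι := by
    rw [Category.assoc, pullback.condition, IsIso.inv_hom_id_assoc]
  have hker : ι'.ker = ι.ker.comap V.ι := by
    rw [Scheme.Hom.ker_comp_of_isIso, Scheme.IdealSheafData.ker_fst_of_isClosedImmersion]
  have hI' : BlowUp.IsEffCartierIdeal ι'.ker := by
    rw [hker]
    exact BlowUpExist.isEffCartierIdeal_comap_of_isOpenImmersion hI V.ι
  obtain ⟨i⟩ := ArInter.nonempty_pullback_idealMod V.ι hI (hker ▸ hI')
  refine false_of_principal ι' e hI' ?_ (s := V.topIso.inv s) ?_ ?_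
  · refine ⟨(Scheme.Modules.pullback (e.hom ≫ ι')).mapIso (eqToIso (congrArg ClSub.idealMod hker) ≪≫ i.symm) ≪≫
      (Scheme.Modules.pullbackComp (e.hom ≫ ι') V.ι).app _ ≪≫
      (Scheme.Modules.pullbackCongr (show (e.hom ≫ ι') ≫ V.ι = e.hom ≫ ι by rw [Category.assoc, hι])).app _ ≪≫ eN⟩
  · exact fun h0 => hs ((ConcreteCategory.bijective_of_isIso V.topIso.inv).1 (h0.trans (map_zero _).symm))
  · intro x
    have hb : x ∈ V.toScheme.basicOpen (V.topIso.inv s) ↔ (V.ι x : X) ∈ X.basicOpen s := by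
      have e0 : V.ι ''ᵁ V.toScheme.basicOpen (V.topIso.inv s) = X.basicOpen s := by
        rw [Scheme.image_basicOpen, Scheme.Opens.ι_appIso]
        exact Scheme.basicOpen_res_eq _ _ _
      rw [← e0]
      exact ⟨fun hx => ⟨x, hx, rfl⟩, fun ⟨x', hx', he⟩ => V.ι.isOpenEmbedding.injective he ▸ hx'⟩
    rw [hb, ← hsupp (V.ι x) x.2]
    constructor
    · rintro ⟨a, rfl⟩
      exact ⟨a, by rw [← Scheme.Hom.comp_apply, hι]⟩
    · rintro ⟨a, ha⟩
      exact ⟨a, V.ι.isOpenEmbedding.injective (by rw [← Scheme.Hom.comp_apply, hι]; exact ha)⟩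

end Groth.Agent.RelMin
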