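import Groth.Agent.Lib.RelMin32.Basic
import Groth.Agent.Lib.HensProper6.Fibres
import Groth.Agent.Lib.LimH13.ArrowModel
import Groth.Agent.Lib.GeomIrr18.Top
import Groth.Agent.Lib.GeomIrr18.Prim
import Groth.Agent.Lib.GeomSpread4.Main
import Mathlib

/-!
# Almost all vertical curves are cut out by one global function near the curve
-/

set_option autoImplicit false
set_option linter.style.haveILetI false
set_option linter.unusedSectionVars false
set_option backward.isDefEq.respectTransparency false
set_option maxHeartbeats 1000000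

universe u

open CategoryTheory CategoryTheory.Limits AlgebraicGeometry TopologicalSpace

namespace Groth.Agent.RelMin

variable {R : Type u} [CommRing R] [IsDedekindDomain R]

theorem exists_finite_cutOut {X : Over (Spec (CommRingCat.of R))} (hX : IsGood X) :
    ∃ C : Set (Spec (CommRingCat.of R) : Scheme.{u}), C.Finite ∧ ∀ x : X.left,
      ¬ IsClosed ({x} : Set X.left) → X.hom x ∉ C →
      letI := hX.integral
      ∃ (V : X.left.Opens) (s : Γ(X.left, V)), s ≠ 0 ∧ closure {x} ⊆ (V : Set X.left) ∧
        ∀ v ∈ V, v ∈ closure ({x} : Set X.left) ↔ v ∉ X.left.basicOpen s := by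
  classical
  haveI := hX.integral
  haveI := hX.proper
  haveI := hX.noetherian
  haveI : Nonempty (⊤ : X.left.Opens) := ⟨⟨genericPoint X.left, trivial⟩⟩
  let D := Γ(X.left, ⊤)
  let σ : CommRingCat.of R ⟶ D := CommRingCat.ofHom (Coh.toGlobal X.hom)
  have hfin : σ.hom.Finite := HensProper6.finite_toGlobal X.hom
  letI : Algebra R D := σ.hom.toAlgebra
  haveI : Module.Finite R D := hfin
  haveI : Algebra.IsIntegral R D := Algebra.IsIntegral.of_finite R D
  haveI : Ring.DimensionLEOne D := Ring.DimensionLEOne.of_isIntegral R D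
  haveI : IsNoetherianRing D := Algebra.FiniteType.isNoetherianRing R D
  let φ : X.left ⟶ Spec D := X.left.toSpecΓ
  have hφ : φ ≫ Spec.map σ = X.hom := by
    have h1 : σ = (Scheme.ΓSpecIso (CommRingCat.of R)).inv ≫ X.hom.appTop := rfl
    rw [h1, Spec.map_comp, ← Category.assoc, ← Scheme.toSpecΓ_naturality, Category.assoc,
      ← SpecMap_ΓSpecIso_hom, ← Spec.map_comp, Iso.inv_hom_id, Spec.map_id, Category.comp_id]
  haveI : IsProper (φ ≫ Spec.map σ) := hφ.symm ▸ hX.proper
  haveI : IsProper φ := IsProper.of_comp φ (Spec.map σ)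
  haveI : LocallyOfFinitePresentation φ := LimH13.locallyOfFinitePresentation_of_noetherian φ
  have hηD : (φ (genericPoint X.left) : PrimeSpectrum D).asIdeal = ⊥ := by
    have h1 : IsLocalRing.maximalIdeal X.left.functionField = ⊥ :=
      IsLocalRing.isField_iff_maximalIdeal_eq.1 (Field.toIsField X.left.functionField)
    show (X.left.toSpecΓ (genericPoint X.left) : PrimeSpectrum D).asIdeal = ⊥
    rw [Scheme.toSpecΓ_apply]
    show Ideal.comap (X.left.presheaf.germ ⊤ (genericPoint X.left) trivial).hom
      (IsLocalRing.maximalIdeal X.left.functionField) = ⊥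
    rw [h1]
    exact (RingHom.injective_iff_ker_eq_bot _).1 (germ_injective_of_isIntegral X.left (U := ⊤) (genericPoint X.left) trivial)
  have hσinj : Function.Injective σ.hom := by
    rw [RingHom.injective_iff_ker_eq_bot]
    have h1 := hX.hom_genericPoint
    rw [← hφ, Scheme.Hom.comp_apply] at h1
    have h2 := congrArg (fun p : PrimeSpectrum R => p.asIdeal) h1
    rw [show ((Spec.map σ) (φ (genericPoint X.left)) : PrimeSpectrum R).asIdeal =
      (φ (genericPoint X.left) : PrimeSpectrum D).asIdeal.comap σ.hom from rfl, hηD] at h2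
    exact h2
  have hvert : ∀ x : X.left, X.hom x ≠ gen R ↔ (φ x : PrimeSpectrum D).asIdeal ≠ ⊥ := fun x => by
    have hc : (X.hom x : PrimeSpectrum R).asIdeal = (φ x : PrimeSpectrum D).asIdeal.comap σ.hom := by
      rw [← hφ, Scheme.Hom.comp_apply]
      rfl
    refine not_congr ⟨fun hh => ?_, fun hh => ?_⟩
    · by_contra hne
      refine Ideal.IsIntegral.comap_ne_bot R hne ?_
      show (φ x : PrimeSpectrum D).asIdeal.comap σ.hom = ⊥
      rw [← hc, hh]
    · refine PrimeSpectrum.ext ?_
      rw [hc, hh]
      exact (RingHom.injective_iff_ker_eq_bot _).1 hσinj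
  -- geometric irreducibility of the generic fibre
  have hgeo : ∀ (L : Type u) [Field L] [Algebra D L], Function.Injective (algebraMap D L) →
      IrreducibleSpace ↥(pullback φ (Spec.map (CommRingCat.ofHom (algebraMap D L)))) := by
    intro L _ _ hL
    let K := FractionRing D
    let F := X.left.functionField
    letI : Algebra D F := (X.left.presheaf.germ ⊤ (genericPoint X.left) trivial).hom.toAlgebra
    have hDF : Function.Injective (algebraMap D F) :=
      germ_injective_of_isIntegral X.left (U := ⊤) (genericPoint X.left) trivial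
    haveI : FaithfulSMul D F := (faithfulSMul_iff_algebraMap_injective D F).2 hDF
    letI : Algebra K F := FractionRing.liftAlgebra D F
    haveI : FaithfulSMul D L := (faithfulSMul_iff_algebraMap_injective D L).2 hL
    letI : Algebra K L := FractionRing.liftAlgebra D L
    have hclosed : ∀ a : F, IsSeparable K a → a ∈ Set.range (algebraMap K F) := fun a ha => by
      obtain ⟨⟨c, hc⟩, hca⟩ := IsIntegral.exists_multiple_integral_of_isLocalization (nonZeroDivisors D) a ha.isIntegral
      obtain ⟨s, hs⟩ := Fibration13.exists_section (W := ⊤) trivial (c • a) fun z _ => by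
        haveI := hX.normal z
        let O := X.left.presheaf.stalk z
        letI : Algebra D O := (X.left.presheaf.germ ⊤ z trivial).hom.toAlgebra
        haveI : IsScalarTower D O F := IsScalarTower.of_algebraMap_eq fun d =>
          (TopCat.Presheaf.germ_stalkSpecializes_apply X.left.presheaf (U := (⊤ : X.left.Opens)) (y := z) trivial
            (genericPoint_specializes z) d).symm
        obtain ⟨b, hb⟩ := IsIntegrallyClosed.isIntegral_iff.1 (hca.tower_top : IsIntegral O (c • a))
        exact ⟨b, hb⟩
      refine ⟨algebraMap D K s * (algebraMap D K c)⁻¹, ?_⟩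
      rw [map_mul, map_inv₀, ← IsScalarTower.algebraMap_apply D K F, ← IsScalarTower.algebraMap_apply D K F,
        show algebraMap D F s = c • a from hs, Algebra.smul_def, mul_comm (algebraMap D F c) a,
        mul_assoc, mul_inv_cancel₀ ((map_ne_zero_iff _ hDF).2 (nonZeroDivisors.ne_zero hc)), mul_one]
    haveI : GeometricallyIrreducible (Spec.map (CommRingCat.ofHom (algebraMap K F))) :=
      GeomIrr.geometricallyIrreducible_of_separable hclosed
    let tK : Spec (CommRingCat.of K) ⟶ Spec D := Spec.map (CommRingCat.ofHom (algebraMap D K))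
    haveI : IsPreimmersion tK := IsPreimmersion.of_isLocalization (nonZeroDivisors D)
    let p := pullback.snd φ tK
    let q := pullback.fst φ tK
    haveI : IsPreimmersion q := MorphismProperty.pullback_fst _ _ inferInstance
    let i : Spec (CommRingCat.of F) ⟶ pullback φ tK :=
      pullback.lift (X.left.fromSpecStalk (genericPoint X.left)) (Spec.map (CommRingCat.ofHom (algebraMap K F))) (by
        rw [Scheme.fromSpecStalk_toSpecΓ, ← Spec.map_comp]
        congr 1
        ext d
        exact IsScalarTower.algebraMap_apply D K F d)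
    have hip : i ≫ p = Spec.map (CommRingCat.ofHom (algebraMap K F)) := pullback.lift_snd _ _ _
    have hdense : Dense (Set.range i) := fun z => by
      obtain ⟨e⟩ : Nonempty (Spec (CommRingCat.of F) : Scheme.{u}) := inferInstance
      have he : q (i e) = genericPoint X.left := by
        rw [← Scheme.Hom.comp_apply, show i ≫ q = X.left.fromSpecStalk (genericPoint X.left) from pullback.lift_fst _ _ _]
        have h1 : X.left.fromSpecStalk (genericPoint X.left) e ∈ Set.range (X.left.fromSpecStalk (genericPoint X.left)) :=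
          ⟨e, rfl⟩
        rw [Scheme.range_fromSpecStalk] at h1
        exact ((Set.mem_ofPred.1 h1).antisymm (genericPoint_specializes _)).eq
      have h2 : i e ⤳ z := q.isEmbedding.isInducing.specializes_iff.1 (he ▸ genericPoint_specializes (q z))
      exact closure_mono (Set.singleton_subset_iff.2 (Set.mem_range_self e)) h2.mem_closure
    haveI : GeometricallyIrreducible (i ≫ p) := by rw [hip]; infer_instance
    let tL : Spec (CommRingCat.of L) ⟶ Spec (CommRingCat.of K) := Spec.map (CommRingCat.ofHom (algebraMap K L))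
    obtain ⟨r, -, -, hr, -⟩ := GeomIrr.exists_bcMap p tL i
    haveI : IrreducibleSpace ↥(pullback (i ≫ p) tL) :=
      GeometricallyIrreducible.geometrically_irreducibleSpace (f := i ≫ p) tL _ _
        (IsPullback.of_hasPullback _ _)
    haveI := GeomIrr.universallyOpen_fst p L
    have hd : Dense (Set.range r) := by
      rw [hr]
      exact hdense.preimage (pullback.fst p tL).isOpenMap
    haveI : IrreducibleSpace ↥(pullback p tL) := by
      refine (irreducibleSpace_def _).mpr ?_
      rw [Set.top_eq_univ, ← hd.closure_eq, isIrreducible_iff_closure, ← Set.image_univ]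
      exact (IrreducibleSpace.isIrreducible_univ _).image r r.continuous.continuousOn
    have hcomp : tL ≫ tK = Spec.map (CommRingCat.ofHom (algebraMap D L)) := by
      rw [← Spec.map_comp, ← CommRingCat.ofHom_comp, ← IsScalarTower.algebraMap_eq]
    rw [← (pullbackLeftPullbackSndIso φ tK tL ≪≫ pullback.congrHom rfl hcomp).hom.homeomorph.irreducibleSpace_iff]
    infer_instance
  obtain ⟨d, hd0, hd⟩ := GeomSpread4.exists_irreducible_fibres φ hgeo
  haveI : IsNoetherianRing Γ(X.left, ⊤) := ‹IsNoetherianRing D›
  have hfinz : ∀ t : D, t ≠ 0 → (PrimeSpectrum.zeroLocus ({t} : Set D)).Finite := fun t ht => by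
    refine ((Ideal.finite_minimalPrimes_of_isNoetherianRing _ (Ideal.span {t})).preimage
      (fun _ _ _ _ h => PrimeSpectrum.ext h)).subset fun p hp => ?_
    have hp' : Ideal.span {t} ≤ p.asIdeal := by
      rw [Ideal.span_le]; exact hp
    obtain ⟨q, hq, hqp⟩ := Ideal.exists_minimalPrimes_le hp'
    haveI := hq.1.1
    have hq0 : q ≠ ⊥ := fun h0 => ht (by
      have := hq.1.2 (Ideal.mem_span_singleton_self t)
      rwa [h0, Ideal.mem_bot] at this)
    haveI := Ring.DimensionLEOne.maximalOfPrime hq0 hq.1.1
    show p.asIdeal ∈ (Ideal.span {t} : Ideal D).minimalPrimes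
    rw [← Ideal.IsMaximal.eq_of_le ‹q.IsMaximal› p.isPrime.ne_top hqp]
    exact hq
  refine ⟨insert (gen R) ((fun P => (Spec.map σ) P) '' (PrimeSpectrum.zeroLocus ({d} : Set D))),
    ((hfinz d hd0).image _).insert _, fun x hxc hxC => ?_⟩
  have hxv : X.hom x ≠ gen R := fun h => hxC (Set.mem_insert_iff.2 (Or.inl h))
  have hxd : d ∉ (φ x : PrimeSpectrum D).asIdeal := fun h => hxC (Set.mem_insert_iff.2 (Or.inr
    ⟨φ x, Set.singleton_subset_iff.2 h, by rw [← hφ, Scheme.Hom.comp_apply]⟩))
  let s := φ x
  letI : Algebra D ((Spec D).residueField s) := (Spec.preimage ((Spec D).fromSpecResidueField s)).hom.toAlgebra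
  let t := Spec.map (CommRingCat.ofHom (algebraMap D ((Spec D).residueField s)))
  have ht : t = (Spec D).fromSpecResidueField s := Spec.map_preimage _
  haveI : IrreducibleSpace ↥(pullback φ t) := by
    refine hd ((Spec D).residueField s) fun h0 => hxd ?_
    have h1 : (t (IsLocalRing.closedPoint ((Spec D).residueField s)) : PrimeSpectrum D) = s := by
      rw [ht]; exact Scheme.fromSpecResidueField_apply _ _
    show d ∈ (s : PrimeSpectrum D).asIdeal
    rw [← h1]
    show algebraMap D ((Spec D).residueField s) d ∈ IsLocalRing.maximalIdeal _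
    rw [h0]
    exact zero_mem _
  have hF : IsIrreducible (φ ⁻¹' {s}) := by
    have hr : Set.range (pullback.fst φ t) = φ ⁻¹' {s} := by
      rw [Scheme.Pullback.range_fst]
      exact congrArg (φ ⁻¹' ·) ((congrArg (fun u : Spec (CommRingCat.of ↥((Spec D).residueField s)) ⟶ Spec D => Set.range ⇑u) ht).trans (Scheme.range_fromSpecResidueField _))
    rw [← hr, ← Set.image_univ]
    exact (IrreducibleSpace.isIrreducible_univ _).image _ (pullback.fst φ t).continuous.continuousOn
  have hFc : IsClosed (φ ⁻¹' {s}) := ((PrimeSpectrum.isClosed_singleton_iff_isMaximal _).2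
    (Ring.DimensionLEOne.maximalOfPrime ((hvert x).1 hxv) (PrimeSpectrum.isPrime _))).preimage φ.continuous
  obtain ⟨g, hg⟩ := QuasiSober.sober hF hFc
  have hgs : φ g = s := hg.mem
  have hgx := hX.eq_of_vertical (hg.specializes (rfl : φ x = s)) ((hvert g).2 (by rw [hgs]; exact (hvert x).1 hxv)) hxc
  have hcl : closure ({x} : Set X.left) = φ ⁻¹' {s} := by rw [← hgx]; exact hg.def
  obtain ⟨a, ha, ha0⟩ : ∃ a ∈ (s : PrimeSpectrum D).asIdeal, a ≠ 0 :=
    Submodule.exists_mem_ne_zero_of_ne_bot ((hvert x).1 hxv)
  let T : Set (PrimeSpectrum D) := PrimeSpectrum.zeroLocus ({a} : Set D) \ {s}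
  have hT : IsClosed T := by
    rw [← Set.biUnion_of_singleton T]
    refine (((hfinz a ha0).subset Set.sdiff_subset)).isClosed_biUnion fun q hq => ?_
    refine (PrimeSpectrum.isClosed_singleton_iff_isMaximal q).2 (Ring.DimensionLEOne.maximalOfPrime (fun h0 => ha0 ?_) q.isPrime)
    have : a ∈ q.asIdeal := hq.1 rfl
    rwa [h0, Ideal.mem_bot] at this
  let V : X.left.Opens := ⟨(φ ⁻¹' T)ᶜ, (hT.preimage φ.continuous).isOpen_compl⟩
  have hxV : x ∈ V := fun h => h.2 rfl
  haveI : Nonempty V := ⟨⟨x, hxV⟩⟩
  refine ⟨V, (X.left.presheaf.map (homOfLE (le_top : V ≤ ⊤)).op).hom a, ?_, ?_, fun v hv => ?_⟩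
  · exact fun h0 => ha0 (map_injective_of_isIntegral X.left (homOfLE (le_top : V ≤ ⊤)) (h0.trans (map_zero _).symm))
  · rw [hcl]
    exact fun w hw h => h.2 hw
  · have hb : v ∈ X.left.basicOpen ((X.left.presheaf.map (homOfLE (le_top : V ≤ ⊤)).op).hom a) ↔
        a ∉ (φ v : PrimeSpectrum D).asIdeal := by
      rw [Scheme.basicOpen_res, show φ v = X.left.toSpecΓ v from rfl, Scheme.toSpecΓ_apply]
      refine ⟨fun h hm => ?_, fun h => ⟨hv, ?_⟩⟩
      · exact (IsLocalRing.mem_maximalIdeal _).1 hm ((X.left.mem_basicOpen a v trivial).1 h.2)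
      · exact (X.left.mem_basicOpen a v trivial).2 (not_not.1 fun hh => h ((IsLocalRing.mem_maximalIdeal _).2 hh))
    rw [hb, not_not, hcl]
    constructor
    · intro h
      rw [show φ v = s from h]
      exact ha
    · intro h
      by_contra hne
      exact hv ⟨Set.singleton_subset_iff.2 h, hne⟩

end Groth.Agent.RelMin
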